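import Cfsg.Agent.Mrg.Omega.EH3.Perm
import Mathlib.LinearAlgebra.Matrix.SpecialLinearGroup
import Mathlib.RingTheory.IntegralDomain
import Mathlib
import Cfsg.Agent.LieExceptional.BNPairCore

section


/-!
# Nodes from homomorphisms onto `SL(2, F)` (blueprint OMEGA-FF2b-helper796)

* `Pre.comap`, `NodeL.comap` : pull back along a surjective `ψ : E →* G₀` whose kernel is a 2-group;
* `slNode` : `SL(2, F)`, `F` finite of characteristic 2, is an `L₂(F)`-node;
* `nodeL_of_hom` : `ψ : E →* SL(2, F)` onto with 2-group as kernel, `T` a Sylow 2-subgroup of `E` : there is a `NodeL`;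
* `fix_of_hom` : `E` fixes `a` if `|F| ≥ 8`.
-/

set_option autoImplicit false

namespace Cfsg.Agent.Omega.EH3

open Subgroup

section comap

variable {H G₀ : Type*} [Group H] [Group G₀] {E : Subgroup H} {T₀ O₀ : Subgroup G₀}

/-- the pull back of a subgroup of `G₀` as a subgroup of `H` -/
def pull (ψ : E →* G₀) (K : Subgroup G₀) : Subgroup H := (K.comap ψ).map E.subtype

theorem mem_pull (ψ : E →* G₀) (K : Subgroup G₀) {g : H} :
    g ∈ pull ψ K ↔ ∃ h : g ∈ E, ψ ⟨g, h⟩ ∈ K := by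
  unfold pull
  constructor
  · rintro ⟨x, hx, rfl⟩
    exact ⟨x.2, hx⟩
  · rintro ⟨h, hg⟩
    exact ⟨⟨g, h⟩, hg, rfl⟩

theorem mem_pull_coe (ψ : E →* G₀) (K : Subgroup G₀) (g : E) : (g : H) ∈ pull ψ K ↔ ψ g ∈ K := by
  rw [mem_pull]
  exact ⟨fun ⟨_, h⟩ => h, fun h => ⟨g.2, h⟩⟩

theorem pull_le (ψ : E →* G₀) (K : Subgroup G₀) : pull ψ K ≤ E := fun _ hg => ((mem_pull ψ K).1 hg).1

/-- the normalizer in `E` of the pull back -/
theorem mem_normalizer_pull (ψ : E →* G₀) (hψ : Function.Surjective ψ) (K : Subgroup G₀) (g : E) :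
    (g : H) ∈ normalizer ((pull ψ K : Subgroup H) : Set H) ↔ ψ g ∈ normalizer (K : Set G₀) := by
  rw [mem_normalizer_iff, mem_normalizer_iff]
  constructor
  · intro h k
    obtain ⟨x, rfl⟩ := hψ k
    have := h x
    rw [mem_pull_coe] at this
    have h2 := mem_pull_coe ψ K (g * x * g⁻¹)
    push_cast at h2
    rw [h2, map_mul, map_mul, map_inv] at this
    exact this
  · intro h x
    constructor
    · intro hx
      obtain ⟨hxE, hx⟩ := (mem_pull ψ K).1 hx
      refine (mem_pull ψ K).2 ⟨E.mul_mem (E.mul_mem g.2 hxE) (E.inv_mem g.2), ?_⟩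
      have := (h (ψ ⟨x, hxE⟩)).1 hx
      rw [← map_inv, ← map_mul, ← map_mul] at this
      exact this
    · intro hx
      obtain ⟨hxE, hx⟩ := (mem_pull ψ K).1 hx
      have hxE' : x ∈ E := by
        have := E.mul_mem (E.mul_mem (E.inv_mem g.2) hxE) g.2
        have h3 : (g : H)⁻¹ * (g * x * (g : H)⁻¹) * g = x := by group
        rwa [h3] at this
      refine (mem_pull ψ K).2 ⟨hxE', (h (ψ ⟨x, hxE'⟩)).2 ?_⟩
      rw [← map_inv, ← map_mul, ← map_mul]
      exact hx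

/-- **Pull back of a rank one situation.** -/
theorem Pre.comap (ψ : E →* G₀) (hψ : Function.Surjective ψ) (hker : IsPGroup 2 ψ.ker)
    (P : Pre (⊤ : Subgroup G₀) T₀ O₀) : Pre E (pull ψ T₀) (pull ψ O₀) where
  T_le := pull_le ψ T₀
  O_le := by
    intro g hg
    obtain ⟨hE, h⟩ := (mem_pull ψ O₀).1 hg
    exact (mem_pull ψ T₀).2 ⟨hE, P.O_le h⟩
  two := by
    rintro ⟨g, hg⟩
    obtain ⟨hE, h⟩ := (mem_pull ψ T₀).1 hg
    obtain ⟨k, hk⟩ := P.two ⟨_, h⟩
    have h1 : (⟨g, hE⟩ : E) ^ 2 ^ k ∈ ψ.ker := by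
      rw [MonoidHom.mem_ker, map_pow]
      exact congrArg Subtype.val hk
    obtain ⟨l, hl⟩ := hker ⟨_, h1⟩
    refine ⟨k + l, Subtype.ext ?_⟩
    have h2 := congrArg (fun x : ψ.ker => ((x : E) : H)) hl
    have h3 : (g ^ 2 ^ k) ^ 2 ^ l = 1 := by simpa using h2
    show g ^ 2 ^ (k + l) = 1
    rw [pow_add, pow_mul, h3]
  norm := by
    intro g hg o ho
    obtain ⟨hE, h⟩ := (mem_pull ψ O₀).1 ho
    refine (mem_pull ψ O₀).2 ⟨E.mul_mem (E.mul_mem hg hE) (E.inv_mem hg), ?_⟩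
    have := P.norm (ψ ⟨g, hg⟩) (mem_top _) _ h
    rw [← map_inv, ← map_mul, ← map_mul] at this
    exact this
  trans := by
    intro g hg hgN k hk hkN
    have h1 : ψ ⟨g, hg⟩ ∉ normalizer (T₀ : Set G₀) := fun hc =>
      hgN ((mem_normalizer_pull ψ hψ T₀ ⟨g, hg⟩).2 hc)
    have h2 : ψ ⟨k, hk⟩ ∉ normalizer (T₀ : Set G₀) := fun hc =>
      hkN ((mem_normalizer_pull ψ hψ T₀ ⟨k, hk⟩).2 hc)
    obtain ⟨t, ht, htn⟩ := P.trans _ (mem_top _) h1 _ (mem_top _) h2
    obtain ⟨t, rfl⟩ := hψ t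
    refine ⟨t, (mem_pull_coe ψ T₀ t).2 ht, ?_⟩
    have h3 := (mem_normalizer_pull ψ hψ T₀ ((t * ⟨g, hg⟩)⁻¹ * ⟨k, hk⟩)).2 (by
      rw [map_mul, map_inv, map_mul]; exact htn)
    simpa using h3
  core := by
    intro g hg hall
    refine (mem_pull ψ O₀).2 ⟨hg, P.core _ (mem_top _) fun k _ => ?_⟩
    obtain ⟨k, rfl⟩ := hψ k
    have h1 := hall k k.2
    have h2 := (mem_normalizer_pull ψ hψ T₀ (k⁻¹ * ⟨g, hg⟩ * k)).1 (by simpa using h1)
    rw [map_mul, map_mul, map_inv] at h2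
    exact h2

open Classical in
/-- **Pull back of an `L₂(F)`-node.** -/
theorem NodeL.comap {F : Type*} [Field F] {φ : G₀ → F} {c lam} (ψ : E →* G₀)
    (hψ : Function.Surjective ψ) (hker : IsPGroup 2 ψ.ker)
    (P : NodeL (⊤ : Subgroup G₀) T₀ O₀ φ c lam) (c' : E) (hc' : ψ c' = c) :
    NodeL E (pull ψ T₀) (pull ψ O₀) (fun h => if hh : h ∈ E then φ (ψ ⟨h, hh⟩) else 0) (c' : H) lam where
  toPre := P.toPre.comap ψ hψ hker
  map_mul := by
    intro s hs t ht
    obtain ⟨hsE, hs⟩ := (mem_pull ψ T₀).1 hs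
    obtain ⟨htE, ht⟩ := (mem_pull ψ T₀).1 ht
    have h1 := P.map_mul _ hs _ ht
    rw [← _root_.map_mul] at h1
    simp only [dif_pos hsE, dif_pos htE, dif_pos (E.mul_mem hsE htE)]
    exact h1
  ker := by
    intro s hs
    obtain ⟨hsE, hs⟩ := (mem_pull ψ T₀).1 hs
    have h1 := P.ker _ hs
    simp only [dif_pos hsE]
    rw [h1]
    exact ⟨fun h => (mem_pull ψ O₀).2 ⟨hsE, h⟩, fun h => ((mem_pull ψ O₀).1 h).2⟩
  surj := by
    intro f
    obtain ⟨t, ht, htf⟩ := P.surj f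
    obtain ⟨t, rfl⟩ := hψ t
    refine ⟨t, (mem_pull_coe ψ T₀ t).2 ht, ?_⟩
    simp only [dif_pos t.2]
    exact htf
  c_mem := c'.2
  c_norm := (mem_normalizer_pull ψ hψ T₀ c').2 (by rw [hc']; exact P.c_norm)
  gen := by
    intro g hg hgN
    have h1 := (mem_normalizer_pull ψ hψ T₀ ⟨g, hg⟩).1 hgN
    obtain ⟨k, t, ht, h2⟩ := P.gen _ (mem_top _) h1
    refine ⟨k, ((c' : H) ^ k)⁻¹ * g, ?_, (mul_inv_cancel_left _ _).symm⟩
    have h3 := (mem_pull_coe ψ T₀ ((c' ^ k)⁻¹ * ⟨g, hg⟩)).2 (by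
      rw [_root_.map_mul, _root_.map_inv, _root_.map_pow, hc', h2, inv_mul_cancel_left]
      exact ht)
    simpa using h3
  act := by
    intro t ht
    obtain ⟨htE, ht⟩ := (mem_pull ψ T₀).1 ht
    have h1 := P.act _ ht
    have h2 : (c' : H) * t * (c' : H)⁻¹ ∈ E := E.mul_mem (E.mul_mem c'.2 htE) (E.inv_mem c'.2)
    have h3 : ψ ⟨(c' : H) * t * (c' : H)⁻¹, h2⟩ = c * ψ ⟨t, htE⟩ * c⁻¹ := by
      rw [← hc', ← _root_.map_inv, ← _root_.map_mul, ← _root_.map_mul]
      rfl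
    simp only [dif_pos h2, dif_pos htE]
    rw [h3, h1]
  ne := P.ne
  ord := P.ord
  tor := by
    have h1 := (mem_pull_coe ψ T₀ (c' ^ (Nat.card F - 1))).2 (by
      rw [_root_.map_pow, hc']; exact P.tor)
    simpa using h1

end comap

/-! ### `SL(2, F)` -/

section SL2

open Matrix

variable {F : Type*} [Field F]

theorem sl_mul (g h : SpecialLinearGroup (Fin 2) F) (i j : Fin 2) :
    (g * h).1 i j = g.1 i 0 * h.1 0 j + g.1 i 1 * h.1 1 j := by
  show (g.1 * h.1) i j = _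
  rw [Matrix.mul_apply, Fin.sum_univ_two]

theorem sl_ext {g h : SpecialLinearGroup (Fin 2) F} (h00 : g.1 0 0 = h.1 0 0) (h01 : g.1 0 1 = h.1 0 1)
    (h10 : g.1 1 0 = h.1 1 0) (h11 : g.1 1 1 = h.1 1 1) : g = h := by
  apply Subtype.ext
  ext i j
  fin_cases i <;> fin_cases j
  · exact h00
  · exact h01
  · exact h10
  · exact h11

theorem sl_det (g : SpecialLinearGroup (Fin 2) F) : g.1 0 0 * g.1 1 1 - g.1 0 1 * g.1 1 0 = 1 := by
  have := g.2
  rwa [Matrix.det_fin_two] at this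

/-- the unipotent elements -/
def uni (t : F) : SpecialLinearGroup (Fin 2) F := ⟨!![1, t; 0, 1], by simp [Matrix.det_fin_two]⟩

theorem uni_00 (t : F) : (uni t).1 0 0 = 1 := rfl
theorem uni_01 (t : F) : (uni t).1 0 1 = t := rfl
theorem uni_10 (t : F) : (uni t).1 1 0 = 0 := rfl
theorem uni_11 (t : F) : (uni t).1 1 1 = 1 := rfl

theorem one_00 : (1 : SpecialLinearGroup (Fin 2) F).1 0 0 = 1 := rfl
theorem one_01 : (1 : SpecialLinearGroup (Fin 2) F).1 0 1 = 0 := rfl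
theorem one_10 : (1 : SpecialLinearGroup (Fin 2) F).1 1 0 = 0 := rfl
theorem one_11 : (1 : SpecialLinearGroup (Fin 2) F).1 1 1 = 1 := rfl

theorem uni_mul (s t : F) : uni s * uni t = uni (s + t) := by
  apply sl_ext <;> simp only [sl_mul, uni_00, uni_01, uni_10, uni_11] <;> ring

theorem uni_zero : uni (0 : F) = 1 := by
  apply sl_ext <;> simp only [uni_00, uni_01, uni_10, uni_11, one_00, one_01, one_10, one_11]

theorem uni_inv (t : F) : (uni t)⁻¹ = uni (-t) := by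
  rw [inv_eq_iff_mul_eq_one, uni_mul, add_neg_cancel, uni_zero]

/-- the unipotent subgroup -/
def UU (F : Type*) [Field F] : Subgroup (SpecialLinearGroup (Fin 2) F) where
  carrier := Set.range uni
  one_mem' := ⟨0, uni_zero⟩
  mul_mem' := by
    rintro _ _ ⟨s, rfl⟩ ⟨t, rfl⟩
    exact ⟨s + t, (uni_mul s t).symm⟩
  inv_mem' := by
    rintro _ ⟨s, rfl⟩
    exact ⟨-s, (uni_inv s).symm⟩

theorem mem_UU {g : SpecialLinearGroup (Fin 2) F} : g ∈ UU F ↔ ∃ t, uni t = g := Iff.rfl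

theorem mem_UU_iff {g : SpecialLinearGroup (Fin 2) F} :
    g ∈ UU F ↔ g.1 0 0 = 1 ∧ g.1 1 0 = 0 := by
  rw [mem_UU]
  constructor
  · rintro ⟨t, rfl⟩
    exact ⟨uni_00 t, uni_10 t⟩
  · rintro ⟨h0, h1⟩
    have := sl_det g
    rw [h0, h1, one_mul, mul_zero, sub_zero] at this
    exact ⟨g.1 0 1, sl_ext (by rw [h0]; rfl) rfl (by rw [h1]; rfl) (by rw [this]; rfl)⟩

/-- the diagonal elements -/
def dia (u : Fˣ) : SpecialLinearGroup (Fin 2) F :=
  ⟨!![(u : F), 0; 0, ((u⁻¹ : Fˣ) : F)], by simp [Matrix.det_fin_two]⟩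

theorem dia_00 (u : Fˣ) : (dia u).1 0 0 = (u : F) := rfl
theorem dia_01 (u : Fˣ) : (dia u).1 0 1 = 0 := rfl
theorem dia_10 (u : Fˣ) : (dia u).1 1 0 = 0 := rfl
theorem dia_11 (u : Fˣ) : (dia u).1 1 1 = ((u⁻¹ : Fˣ) : F) := rfl

theorem dia_mul (u v : Fˣ) : dia u * dia v = dia (u * v) := by
  apply sl_ext <;> simp only [sl_mul, dia_00, dia_01, dia_10, dia_11, Units.val_mul, mul_inv] <;> ring

theorem dia_one : dia (1 : Fˣ) = 1 := by
  apply sl_ext <;> simp [dia_00, dia_01, dia_10, dia_11, one_00, one_01, one_10, one_11]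

theorem dia_pow (u : Fˣ) (k : ℕ) : dia u ^ k = dia (u ^ k) := by
  induction k with
  | zero => rw [pow_zero, pow_zero, dia_one]
  | succ k ih => rw [pow_succ, ih, dia_mul, pow_succ]

theorem mem_normalizer_UU (g : SpecialLinearGroup (Fin 2) F) :
    g ∈ normalizer ((UU F : Subgroup _) : Set (SpecialLinearGroup (Fin 2) F)) ↔ g.1 1 0 = 0 := by
  have key : ∀ (g : SpecialLinearGroup (Fin 2) F), g.1 1 0 = 0 → ∀ t : F, g * uni t * g⁻¹ ∈ UU F := by
    intro g h0 t
    refine ⟨g.1 0 0 * g.1 0 0 * t, ?_⟩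
    rw [eq_mul_inv_iff_mul_eq]
    have hdet := sl_det g
    rw [h0, mul_zero, sub_zero] at hdet
    apply sl_ext <;> simp only [sl_mul, uni_00, uni_01, uni_10, uni_11, h0]
    · ring
    · linear_combination (g.1 0 0 * t) * hdet
    · ring
    · ring
  rw [mem_normalizer_iff]
  constructor
  · intro h
    obtain ⟨s, hs⟩ := (h (uni 1)).1 ⟨1, rfl⟩
    rw [eq_mul_inv_iff_mul_eq] at hs
    have h2 := congrArg (fun m : SpecialLinearGroup (Fin 2) F => m.1 1 1) hs
    simp only [sl_mul, uni_00, uni_01, uni_10, uni_11] at h2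
    linear_combination -h2
  · intro h0 x
    constructor
    · rintro ⟨t, rfl⟩
      exact key g h0 t
    · rintro ⟨t, ht⟩
      have h1 : (g⁻¹).1 1 0 = 0 := by
        have : (g⁻¹).1 1 0 = - g.1 1 0 := by
          show (g.1).adjugate 1 0 = _
          rw [Matrix.adjugate_fin_two]
          rfl
        rw [this, h0, neg_zero]
      have h2 := key g⁻¹ h1 t
      rw [ht] at h2
      have h3 : g⁻¹ * (g * x * g⁻¹) * g⁻¹⁻¹ = x := by group
      rwa [h3] at h2

/-- **`SL(2, F)` is an `L₂(F)`-node.** -/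
theorem slNode [Finite F] [CharP F 2] : ∃ u : Fˣ,
    NodeL (⊤ : Subgroup (SpecialLinearGroup (Fin 2) F)) (UU F) ⊥ (fun g => g.1 0 1) (dia u)
      ((u : F) ^ 2) := by
  classical
  have : Fintype F := Fintype.ofFinite F
  obtain ⟨u, hu⟩ := IsCyclic.exists_generator (α := Fˣ)
  refine ⟨u, ?_⟩
  have hcard : Nat.card Fˣ = Nat.card F - 1 := Nat.card_units F
  have heven : 2 ∣ Nat.card F := by
    rw [Nat.card_eq_fintype_card, ← CharP.cast_eq_zero_iff F 2]
    exact FiniteField.cast_card_eq_zero F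
  have hpos : 0 < Nat.card F := Nat.card_pos
  have hord : orderOf u = Nat.card F - 1 := by
    rw [← hcard]; exact orderOf_eq_card_of_forall_mem_zpowers hu
  refine
    { T_le := le_top
      O_le := bot_le
      two := ?_
      norm := ?_
      trans := ?_
      core := ?_
      map_mul := ?_
      ker := ?_
      surj := fun f => ⟨uni f, ⟨f, rfl⟩, rfl⟩
      c_mem := mem_top _
      c_norm := (mem_normalizer_UU _).2 rfl
      gen := ?_
      act := ?_
      ne := pow_ne_zero 2 u.ne_zero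
      ord := ?_
      tor := ?_ }
  · rintro ⟨_, t, rfl⟩
    refine ⟨1, Subtype.ext ?_⟩
    show uni t ^ 2 ^ 1 = 1
    rw [pow_one, sq, uni_mul, CharTwo.add_self_eq_zero, uni_zero]
  · rintro g _ o ho
    rw [mem_bot] at ho ⊢
    rw [ho]; group
  · intro g _ hg h _ hh
    rw [mem_normalizer_UU] at hg hh
    refine ⟨uni (h.1 0 0 / h.1 1 0 - g.1 0 0 / g.1 1 0), ⟨_, rfl⟩, ?_⟩
    rw [mem_normalizer_UU]
    have h1 : ((uni (h.1 0 0 / h.1 1 0 - g.1 0 0 / g.1 1 0) * g)⁻¹ * h).1 1 0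
        = (uni (h.1 0 0 / h.1 1 0 - g.1 0 0 / g.1 1 0) * g).1 0 0 * h.1 1 0
          - (uni (h.1 0 0 / h.1 1 0 - g.1 0 0 / g.1 1 0) * g).1 1 0 * h.1 0 0 := by
      rw [sl_mul]
      have h2 : ∀ k : SpecialLinearGroup (Fin 2) F, (k⁻¹).1 1 0 = - k.1 1 0 ∧ (k⁻¹).1 1 1 = k.1 0 0 := by
        intro k
        constructor
        · show (k.1).adjugate 1 0 = _
          rw [Matrix.adjugate_fin_two]; rfl
        · show (k.1).adjugate 1 1 = _
          rw [Matrix.adjugate_fin_two]; rfl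
      rw [(h2 _).1, (h2 _).2]
      ring
    rw [h1]
    simp only [sl_mul, uni_00, uni_01, uni_10, uni_11]
    field_simp
    ring
  · intro g _ hall
    rw [mem_bot]
    have h1 : g.1 1 0 = 0 := by
      have := hall 1 (mem_top _)
      rw [inv_one, one_mul, mul_one, mem_normalizer_UU] at this
      exact this
    -- the element `w`
    let w : SpecialLinearGroup (Fin 2) F := ⟨!![0, -1; 1, 0], by simp [Matrix.det_fin_two]⟩
    have hconj : ∀ k : SpecialLinearGroup (Fin 2) F, (k⁻¹ * g * k).1 1 0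
        = -k.1 1 0 * (g.1 0 0 * k.1 0 0 + g.1 0 1 * k.1 1 0) +
          k.1 0 0 * (g.1 1 0 * k.1 0 0 + g.1 1 1 * k.1 1 0) := by
      intro k
      rw [mul_assoc, sl_mul]
      have h2 : (k⁻¹).1 1 0 = - k.1 1 0 ∧ (k⁻¹).1 1 1 = k.1 0 0 := by
        constructor
        · show (k.1).adjugate 1 0 = _
          rw [Matrix.adjugate_fin_two]; rfl
        · show (k.1).adjugate 1 1 = _
          rw [Matrix.adjugate_fin_two]; rfl
      rw [h2.1, h2.2, sl_mul, sl_mul]
    have h2 : g.1 0 1 = 0 := by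
      have := (mem_normalizer_UU _).1 (hall w (mem_top _))
      rw [hconj] at this
      simp only [show w.1 1 0 = 1 from rfl, show w.1 0 0 = 0 from rfl] at this
      linear_combination -this
    have h3 : g.1 0 0 = g.1 1 1 := by
      let v : SpecialLinearGroup (Fin 2) F := ⟨!![1, 0; 1, 1], by simp [Matrix.det_fin_two]⟩
      have := (mem_normalizer_UU _).1 (hall v (mem_top _))
      rw [hconj] at this
      simp only [show v.1 1 0 = 1 from rfl, show v.1 0 0 = 1 from rfl, h1, h2] at this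
      linear_combination -this
    have hdet := sl_det g
    rw [h1, h3, mul_zero, sub_zero] at hdet
    have h4 : g.1 1 1 = 1 := by
      have h5 : (g.1 1 1 - 1) * (g.1 1 1 - 1) = 0 := by
        have h2 : (2 : F) = 0 := CharTwo.two_eq_zero
        linear_combination hdet + (1 - g.1 1 1) * h2
      have h6 := mul_self_eq_zero.1 h5
      linear_combination h6
    exact sl_ext (by rw [h3, h4]; rfl) (by rw [h2]; rfl) (by rw [h1]; rfl) (by rw [h4]; rfl)
  · rintro _ ⟨s, rfl⟩ _ ⟨t, rfl⟩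
    simp only [uni_mul, uni_01]
  · rintro _ ⟨s, rfl⟩
    simp only [uni_01, mem_bot]
    constructor
    · rintro rfl; exact uni_zero
    · intro h
      have := congrArg (fun m : SpecialLinearGroup (Fin 2) F => m.1 0 1) h
      exact this
  · intro g _ hg
    rw [mem_normalizer_UU] at hg
    have hdet := sl_det g
    rw [hg, mul_zero, sub_zero] at hdet
    have h0 : g.1 0 0 ≠ 0 := left_ne_zero_of_mul_eq_one hdet
    obtain ⟨k, hk⟩ := hu (Units.mk0 _ h0)
    -- natural exponent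
    obtain ⟨m, hm⟩ : ∃ m : ℕ, u ^ m = Units.mk0 _ h0 := by
      have := (mem_powers_iff_mem_zpowers (x := u) (y := Units.mk0 _ h0)).2 ⟨k, hk⟩
      exact this
    refine ⟨m, (dia u ^ m)⁻¹ * g, ?_, (mul_inv_cancel_left _ _).symm⟩
    rw [dia_pow, hm, mem_UU_iff]
    have hinv : (dia (Units.mk0 _ h0))⁻¹ = dia (Units.mk0 _ h0)⁻¹ := by
      rw [inv_eq_iff_mul_eq_one, dia_mul, mul_inv_cancel, dia_one]
    rw [hinv]
    constructor
    · simp [sl_mul, dia_00, dia_01, h0]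
    · simp [sl_mul, dia_10, dia_11, hg]
  · rintro _ ⟨t, rfl⟩
    have hinv : (dia u)⁻¹ = dia u⁻¹ := by
      rw [inv_eq_iff_mul_eq_one, dia_mul, mul_inv_cancel, dia_one]
    simp only [hinv, sl_mul, dia_00, dia_01, dia_10, dia_11, uni_00, uni_01, uni_10, uni_11, inv_inv]
    ring
  · intro k hk
    have h1 : u ^ (2 * k) = 1 := by
      apply Units.ext
      rw [Units.val_pow_eq_pow_val, pow_mul]
      exact hk
    have h2 := orderOf_dvd_of_pow_eq_one h1
    rw [hord] at h2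
    refine Nat.Coprime.dvd_of_dvd_mul_left ?_ h2
    obtain ⟨j, hj⟩ := heven
    have : Odd (Nat.card F - 1) := ⟨j - 1, by omega⟩
    exact this.coprime_two_right
  · rw [dia_pow, ← hord, pow_orderOf_eq_one, dia_one]
    exact (UU F).one_mem

end SL2

/-! ### `T` is a Sylow 2-subgroup of `E` -/

section sylow

variable {H : Type*} [Group H] {E T O : Subgroup H} {F : Type*} [Field F] {φ : H → F} {c : H} {lam : F}

theorem odd_card_sub [Finite F] [CharP F 2] : Odd (Nat.card F - 1) := by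
  have : Fintype F := Fintype.ofFinite F
  have h1 : 2 ∣ Nat.card F := by
    rw [Nat.card_eq_fintype_card, ← CharP.cast_eq_zero_iff F 2]
    exact FiniteField.cast_card_eq_zero F
  have h2 : 0 < Nat.card F := Nat.card_pos
  obtain ⟨k, hk⟩ := h1
  exact ⟨k - 1, by omega⟩

/-- 2-elements of `N_E(T)` lie in `T` -/
theorem NodeL.mem_of_two [Finite F] [CharP F 2] (h : NodeL E T O φ c lam) {g : H} (hg : g ∈ E)
    (hgN : g ∈ normalizer (T : Set H)) (h2 : ∃ k : ℕ, g ^ 2 ^ k = 1) : g ∈ T := by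
  obtain ⟨k, hk⟩ := h2
  have h1 := h.pow_mem_T hg hgN
  have hco : Nat.Coprime (2 ^ k) (Nat.card F - 1) :=
    Nat.Coprime.pow_left k (Nat.coprime_two_left.2 odd_card_sub)
  have h3 : g ^ (Int.gcd (2 ^ k : ℕ) (Nat.card F - 1 : ℕ) : ℤ) ∈ T := by
    rw [Int.gcd_eq_gcd_ab, zpow_add, zpow_mul, zpow_mul, zpow_natCast, zpow_natCast, hk, one_zpow,
      one_mul]
    exact zpow_mem h1 _
  rw [Int.gcd_natCast_natCast, hco] at h3
  simpa using h3

/-- `T` is a maximal 2-subgroup of `E` -/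
theorem NodeL.maximal [Finite H] [Finite F] [CharP F 2] (h : NodeL E T O φ c lam) {Q : Subgroup H}
    (hQE : Q ≤ E) (hQ : IsPGroup 2 Q) (hTQ : T ≤ Q) : Q = T := by
  by_contra hne
  have : Fact (Nat.Prime 2) := ⟨Nat.prime_two⟩
  have hlt : T.subgroupOf Q < ⊤ := by
    rw [lt_top_iff_ne_top]
    intro h1
    exact hne (le_antisymm (subgroupOf_eq_top.1 h1) hTQ)
  have hnil : Group.IsNilpotent Q := hQ.isNilpotent
  have hnc := Group.normalizerCondition_of_isNilpotent (G := Q) _ hlt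
  obtain ⟨g, hg, hgT⟩ := Set.exists_of_ssubset hnc
  apply hgT
  show (g : H) ∈ T
  refine h.mem_of_two (hQE g.2) ?_ ?_
  · rw [mem_normalizer_iff]
    intro t
    have hg' := mem_normalizer_iff.1 hg
    constructor
    · intro ht
      exact (hg' ⟨t, hTQ ht⟩).1 ht
    · intro ht
      have htQ : t ∈ Q := by
        have h1 := Q.mul_mem (Q.mul_mem (Q.inv_mem g.2) (hTQ ht)) g.2
        have h2 : (g : H)⁻¹ * (g * t * (g : H)⁻¹) * g = t := by group
        rwa [h2] at h1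
      exact (hg' ⟨t, htQ⟩).2 ht
  · obtain ⟨k, hk⟩ := hQ g
    exact ⟨k, by simpa using congrArg Subtype.val hk⟩

/-- **An `L₂(F)`-node from a homomorphism onto `SL(2, F)`.** -/
theorem nodeL_of_hom [Finite H] [Finite F] [CharP F 2] (hTE : T ≤ E) (hT : IsPGroup 2 T)
    (hmax : ∀ Q : Subgroup H, Q ≤ E → IsPGroup 2 Q → T ≤ Q → Q = T)
    (ψ : E →* Matrix.SpecialLinearGroup (Fin 2) F) (hψ : Function.Surjective ψ)
    (hker : IsPGroup 2 ψ.ker) :
    ∃ (O : Subgroup H) (φ : H → F) (c : H) (lam : F), NodeL E T O φ c lam := by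
  have : Fact (Nat.Prime 2) := ⟨Nat.prime_two⟩
  obtain ⟨u, hu⟩ := slNode (F := F)
  obtain ⟨c₁, hc₁⟩ := hψ (dia u)
  have h1 := hu.comap ψ hψ hker c₁ hc₁
  -- Sylow subgroups of `E`
  have mk : ∀ R : Subgroup H, R ≤ E → IsPGroup 2 R →
      (∀ Q : Subgroup H, Q ≤ E → IsPGroup 2 Q → R ≤ Q → Q = R) →
      ∃ P : Sylow 2 E, (P : Subgroup E) = R.subgroupOf E := by
    intro R hRE hR hRmax
    refine ⟨⟨R.subgroupOf E, ?_, ?_⟩, rfl⟩
    · exact hR.comap_subtype
    · intro Q hQ hle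
      have h2 := hRmax (Q.map E.subtype) (map_subtype_le Q) (hQ.map _) (by
        intro r hr
        exact ⟨⟨r, hRE hr⟩, hle hr, rfl⟩)
      rw [← h2]
      ext x
      simp [mem_subgroupOf]
  obtain ⟨P, hP⟩ := mk T hTE hT hmax
  obtain ⟨P₁, hP₁⟩ := mk _ h1.T_le h1.two (fun Q hQE hQ hle => h1.maximal hQE hQ hle)
  obtain ⟨e, he⟩ := MulAction.exists_smul_eq E P₁ P
  have hconj : ∀ x : E, (x : H) ∈ T ↔ ((e⁻¹ * x * e : E) : H) ∈ pull ψ (UU F) := by
    intro x
    have h2 : (x : H) ∈ T ↔ x ∈ (P : Subgroup E) := by rw [hP]; rfl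
    have h3 : ∀ y : E, (y : H) ∈ pull ψ (UU F) ↔ y ∈ (P₁ : Subgroup E) := by
      intro y; rw [hP₁]; rfl
    rw [h2, h3, ← he, Sylow.coe_subgroup_smul, Subgroup.mem_pointwise_smul_iff_inv_smul_mem]
    rw [show (MulAut.conj e)⁻¹ • x = e⁻¹ * x * e by
      rw [← map_inv, MulAut.smul_def, MulAut.conj_apply, inv_inv]]
  let ψ' : E →* Matrix.SpecialLinearGroup (Fin 2) F := ψ.comp (MulAut.conj e⁻¹).toMonoidHom
  have hψ'a : ∀ x, ψ' x = ψ (e⁻¹ * x * e) := by
    intro x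
    show ψ (e⁻¹ * x * e⁻¹⁻¹) = _
    rw [inv_inv]
  have hψ' : Function.Surjective ψ' := hψ.comp (MulAut.conj e⁻¹).surjective
  have hker' : IsPGroup 2 ψ'.ker := by
    rintro ⟨x, hx⟩
    rw [MonoidHom.mem_ker, hψ'a] at hx
    obtain ⟨k, hk⟩ := hker ⟨_, hx⟩
    refine ⟨k, Subtype.ext ?_⟩
    have h2 : (e⁻¹ * x * e) ^ 2 ^ k = 1 := congrArg Subtype.val hk
    have h3 : (e⁻¹ * x * e) ^ 2 ^ k = e⁻¹ * x ^ 2 ^ k * e := by
      have := conj_pow (i := 2 ^ k) (a := e⁻¹) (b := x)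
      rwa [inv_inv] at this
    rw [h3] at h2
    show x ^ 2 ^ k = 1
    have h4 : x ^ 2 ^ k = e * (e⁻¹ * x ^ 2 ^ k * e) * e⁻¹ := by group
    rw [h4, h2]; group
  obtain ⟨c₂, hc₂⟩ := hψ' (dia u)
  have h2 := hu.comap ψ' hψ' hker' c₂ hc₂
  have hT' : pull ψ' (UU F) = T := by
    ext x
    constructor
    · intro hx
      obtain ⟨hxE, hx⟩ := (mem_pull ψ' (UU F)).1 hx
      rw [hψ'a] at hx
      exact (hconj ⟨x, hxE⟩).2 ((mem_pull_coe ψ (UU F) _).2 hx)
    · intro hx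
      have h3 := (hconj ⟨x, hTE hx⟩).1 hx
      rw [mem_pull_coe, ← hψ'a] at h3
      exact (mem_pull ψ' (UU F)).2 ⟨hTE hx, h3⟩
  rw [hT'] at h2
  exact ⟨_, _, _, _, h2⟩

end sylow

/-- `S` a Sylow 2-subgroup of `H` normalising `E`: `S ∩ E` is a maximal 2-subgroup of `E`. -/
theorem syl_inf_maximal {H : Type*} [Group H] [Finite H] (S : Sylow 2 H) {E : Subgroup H}
    (hSE : ∀ s ∈ S, ∀ e ∈ E, s * e * s⁻¹ ∈ E) {Q : Subgroup H} (hQE : Q ≤ E) (hQ : IsPGroup 2 Q)
    (hle : (S : Subgroup H) ⊓ E ≤ Q) : Q = (S : Subgroup H) ⊓ E := by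
  have : Fact (Nat.Prime 2) := ⟨Nat.prime_two⟩
  let M : Subgroup H := Cfg.EX E S hSE
  have hSM : (S : Subgroup H) ≤ M := fun x hx => ⟨1, E.one_mem, x, hx, by simp⟩
  have hEM : E ≤ M := fun x hx => ⟨x, hx, 1, (S : Subgroup H).one_mem, by simp⟩
  have hQM : Q ≤ M := hQE.trans hEM
  obtain ⟨P, hP⟩ := (hQ.comap_subtype (K := M)).exists_le_sylow
  obtain ⟨m, hm⟩ := MulAction.exists_smul_eq M (S.subtype hSM) P
  obtain ⟨e, he, s, hs, hmes⟩ := m.2
  -- `e⁻¹ Q e ≤ S ∩ E`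
  have h1 : ∀ x ∈ Q, e⁻¹ * x * e ∈ (S : Subgroup H) ⊓ E := by
    intro x hx
    refine ⟨?_, E.mul_mem (E.mul_mem (E.inv_mem he) (hQE hx)) he⟩
    have h2 : (⟨x, hQM hx⟩ : M) ∈ (P : Subgroup M) := hP (by
      rw [mem_comap]; exact hx)
    rw [← hm, Sylow.coe_subgroup_smul, Subgroup.mem_pointwise_smul_iff_inv_smul_mem, ← map_inv,
      MulAut.smul_def, MulAut.conj_apply, inv_inv] at h2
    have h3 : (m : H)⁻¹ * x * (m : H) ∈ (S : Subgroup H) := h2
    rw [hmes] at h3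
    have h4 : e⁻¹ * x * e = s * ((e * s)⁻¹ * x * (e * s)) * s⁻¹ := by group
    rw [h4]
    exact (S : Subgroup H).mul_mem ((S : Subgroup H).mul_mem hs h3) ((S : Subgroup H).inv_mem hs)
  have h2 : Nat.card Q ≤ Nat.card ((S : Subgroup H) ⊓ E : Subgroup H) :=
    Nat.card_le_card_of_injective (fun x : Q => (⟨_, h1 x x.2⟩ : ((S : Subgroup H) ⊓ E : Subgroup H))) (by
      intro x y hxy
      have h3 : e⁻¹ * (x : H) * e = e⁻¹ * y * e := congrArg Subtype.val hxy
      exact Subtype.ext (mul_left_cancel (mul_right_cancel h3)))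
  exact (Subgroup.eq_of_le_of_card_ge hle h2).symm

section final

variable {H V : Type*} [Group H] [AddCommGroup V] [Module (ZMod 2) V]
  {ρ : H →* (V ≃ₗ[ZMod 2] V)} {b : LinearMap.BilinForm (ZMod 2) V} {q : V → ZMod 2}
  {a : V} {D : Submodule (ZMod 2) V} {X : Subgroup H} {w : ℕ} {E T : Subgroup H}
  {F : Type*} [Field F]

/-- **LEMMA NODE**, final form: `T` a Sylow 2-subgroup of `E` fixing `a`, `E` and `T` normalised by `X`, `E` has a
homomorphism onto `SL(2, F)`, `|F| ≥ 8`, with a 2-group as kernel. Then `E` fixes `a`. -/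
theorem fix_of_hom [Finite F] [CharP F 2] (C : Cfg ρ b q a D X w) (hTE : T ≤ E) (hT : IsPGroup 2 T)
    (hmax : ∀ Q : Subgroup H, Q ≤ E → IsPGroup 2 Q → T ≤ Q → Q = T) (hx : XCond ρ a X E T)
    (ψ : E →* Matrix.SpecialLinearGroup (Fin 2) F) (hψ : Function.Surjective ψ)
    (hker : IsPGroup 2 ψ.ker) (hq : 8 ≤ Nat.card F) : ∀ g ∈ E, ρ g a = a := by
  have := C.finite_H
  obtain ⟨O, φ, c, lam, h⟩ := nodeL_of_hom hTE hT hmax ψ hψ hker
  exact h.fix C hx hq

/-- Sylow form: `S` a Sylow 2-subgroup of `H` fixing `a`, containing `X`, and `S ∩ E` a Sylow 2-subgroup of `E` because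
`S` normalises `E`. -/
theorem fix_of_syl [Finite F] [CharP F 2] (C : Cfg ρ b q a D X w) (S : Sylow 2 H)
    (hS : (S : Subgroup H) ≤ stab ρ a) (hSE : ∀ s ∈ S, ∀ e ∈ E, s * e * s⁻¹ ∈ E)
    (ψ : E →* Matrix.SpecialLinearGroup (Fin 2) F) (hψ : Function.Surjective ψ)
    (hker : IsPGroup 2 ψ.ker) (hq : 8 ≤ Nat.card F) : ∀ g ∈ E, ρ g a = a := by
  have := C.finite_H
  have hXS := C.X_le_syl S hS
  refine fix_of_hom C (T := (S : Subgroup H) ⊓ E) inf_le_right (S.isPGroup'.to_le inf_le_left) ?_ ?_ ψ hψ hker hq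
  · exact fun Q hQE hQ hle => syl_inf_maximal S hSE hQE hQ hle
  · exact ⟨fun x hx e he => hSE x (hXS hx) e he,
      fun x hx t ht => ⟨S.mul_mem (S.mul_mem (hXS hx) ht.1) (S.inv_mem (hXS hx)), hSE x (hXS hx) t ht.2⟩,
      fun t ht => hS ht.1⟩

end final

end Cfsg.Agent.Omega.EH3

end

section


/-!
# Theorem ST (bb #12321): BN-pair residues moving `a` (helper324; typed by helper138)

* `Fr`: a finite 2-group `T`, transitive on a finite set `Y`, `f : Y → V` equivariant, `V` of exponent 2,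
  `∑ f = a ≠ 0`.  Then `f` is a linearly independent family (`Fr.indep`, `Fr.inj`), `X ≤ T` with
  `C_V(X) ⊆ {0, a}` is transitive on `Y` (`Fr.trans`), and `|Y| ≤ 8`, `|Y| ≤ 4` (`card_le_eight`, `card_le_four`).
* `sum_D`: for a BN-pair `P` of `L` acting on `V`, `B` fixing `a`, `∑_{c ∈ BsB/B} c a = a` for `s ∈ J`:
  `∑_{c ∈ BnB/B} c a = a` for all `n ∈ ⟨J⟩`.
* `Hyp.card_le`, `Hyp.single`, `Hyp.pair`, `Hyp.triple`: the nodes moving `a`: one node with `q ∈ {2, 4}` or two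
  commuting nodes with `q = 2`.
-/

set_option autoImplicit false

namespace Cfsg.Agent.Omega.EH3.ST

open scoped Classical symmDiff
open MulAction Cfsg.Agent.Omega.EH3.Perm

section Abs

/-- The abstract situation. -/
structure Fr (T : Type*) {Y V : Type*} [Group T] [MulAction T Y] [Fintype Y] [AddCommGroup V]
    [DistribMulAction T V] (f : Y → V) (a : V) : Prop where
  two : ∀ v : V, v + v = 0
  pg : IsPGroup 2 T
  tr : ∀ b c : Y, ∃ t : T, t • b = c
  eq : ∀ (t : T) (y : Y), f (t • y) = t • f y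
  ne : a ≠ 0
  sum : ∑ y, f y = a

variable {T Y V : Type*} [Group T] [MulAction T Y] [Fintype Y] [AddCommGroup V]
  [DistribMulAction T V] {f : Y → V} {a : V}

theorem sum_image (h : Fr T f a) (t : T) (S : Finset Y) :
    ∑ y ∈ S.image (fun y => t • y), f y = t • ∑ y ∈ S, f y := by
  rw [Finset.sum_image (fun x _ y _ hxy => MulAction.injective t hxy), Finset.smul_sum]
  exact Finset.sum_congr rfl fun y _ => h.eq t y

omit [Fintype Y] in
theorem sum_symmDiff' (h2 : ∀ v : V, v + v = 0) (S S' : Finset Y) :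
    ∑ b ∈ S ∆ S', f b = ∑ b ∈ S, f b + ∑ b ∈ S', f b := by
  have h1 : ∑ b ∈ S, f b = ∑ b ∈ S \ S', f b + ∑ b ∈ S ∩ S', f b := by
    rw [← Finset.sum_union (Finset.disjoint_sdiff_inter S S'), Finset.sdiff_union_inter]
  have h3 : ∑ b ∈ S', f b = ∑ b ∈ S' \ S, f b + ∑ b ∈ S ∩ S', f b := by
    rw [Finset.inter_comm, ← Finset.sum_union (Finset.disjoint_sdiff_inter S' S),
      Finset.sdiff_union_inter]
  have h4 : ∑ b ∈ S ∆ S', f b = ∑ b ∈ S \ S', f b + ∑ b ∈ S' \ S, f b := by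
    rw [Finset.symmDiff_def, Finset.sum_union disjoint_sdiff_sdiff]
  rw [h1, h3, h4, add_add_add_comm, h2, add_zero]

/-- **ST (1)**: `f` is a linearly independent family. -/
theorem Fr.indep (h : Fr T f a) (S : Finset Y) (h0 : ∑ y ∈ S, f y = 0) : S = ∅ := by
  by_contra hne
  let α := {S : Finset Y // ∑ y ∈ S, f y = 0}
  let act : MulAction T α :=
    { smul := fun t S => ⟨S.1.image (fun v => t • v), by
        rw [sum_image h, S.2, smul_zero]⟩
      one_smul := by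
        intro S
        apply Subtype.ext
        show S.1.image (fun v => (1 : T) • v) = S.1
        simp
      mul_smul := by
        intro t u S
        apply Subtype.ext
        show S.1.image (fun v => (t * u) • v)
          = (S.1.image (fun v => u • v)).image (fun v => t • v)
        rw [Finset.image_image]
        congr 1
        funext v
        simp [mul_smul] }
  have hfin : Finite α := inferInstance
  have : Fintype α := Fintype.ofFinite α
  have heven : 2 ∣ Nat.card α := by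
    have h1 : ((Fintype.card α : ℕ) : ZMod 2) = 0 := by
      have := Finset.sum_involution (s := (Finset.univ : Finset α)) (f := fun _ => (1 : ZMod 2))
        (fun R _ => (⟨R.1 ∆ S, by rw [sum_symmDiff' h.two, R.2, h0, add_zero]⟩ : α))
        (fun _ _ => by decide) (fun R _ _ hR => hne (by
          have : R.1 ∆ S = R.1 := congrArg Subtype.val hR
          have h5 := congrArg (fun X => R.1 ∆ X) this
          simpa [symmDiff_symmDiff_cancel_left] using h5)) (fun _ _ => Finset.mem_univ _)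
        (fun R _ => Subtype.ext (by
          show (R.1 ∆ S) ∆ S = R.1
          rw [symmDiff_assoc, symmDiff_self, symmDiff_bot]))
      simpa using this
    rw [Nat.card_eq_fintype_card]
    exact (ZMod.natCast_eq_zero_iff _ _).1 h1
  have hfix0 : (⟨∅, by simp⟩ : α) ∈ fixedPoints T α := by
    intro t
    apply Subtype.ext
    show (∅ : Finset Y).image (fun v => t • v) = ∅
    simp
  have : Fact (Nat.Prime 2) := ⟨Nat.prime_two⟩
  obtain ⟨R, hR, hR0⟩ := h.pg.exists_fixed_point_of_prime_dvd_card_of_fixed_point α heven hfix0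
  have hRne : R.1.Nonempty := by
    rw [Finset.nonempty_iff_ne_empty]
    intro he
    exact hR0 (Subtype.ext he.symm)
  obtain ⟨c, hc⟩ := hRne
  have hall : R.1 = Finset.univ := by
    ext b
    refine ⟨fun _ => Finset.mem_univ _, fun _ => ?_⟩
    obtain ⟨t, rfl⟩ := h.tr c b
    have h5 : R.1.image (fun v => t • v) = R.1 := congrArg Subtype.val (hR t)
    rw [← h5]
    exact Finset.mem_image_of_mem _ hc
  apply h.ne
  rw [← h.sum, ← hall, R.2]

/-- **ST (2)**: `f` is injective. -/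
theorem Fr.inj (h : Fr T f a) : Function.Injective f := by
  intro y y' hy
  by_contra hne
  have h1 : ∑ b ∈ ({y, y'} : Finset Y), f b = 0 := by
    rw [Finset.sum_pair hne, hy, h.two]
  have h2 := h.indep _ h1
  have h3 : y ∈ ({y, y'} : Finset Y) := Finset.mem_insert_self _ _
  rw [h2] at h3
  exact Finset.notMem_empty _ h3

theorem Fr.indepV (h : Fr T f a) (S : Finset V) (hS : ∀ b ∈ S, b ∈ Set.range f)
    (h0 : ∑ b ∈ S, b = 0) : S = ∅ := by
  have h1 : S = (Finset.univ.filter (fun y => f y ∈ S)).image f := by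
    ext b
    simp only [Finset.mem_image, Finset.mem_filter, Finset.mem_univ, true_and]
    constructor
    · intro hb
      obtain ⟨y, rfl⟩ := hS b hb
      exact ⟨y, hb, rfl⟩
    · rintro ⟨y, hy, rfl⟩
      exact hy
  have h2 : ∑ y ∈ Finset.univ.filter (fun y => f y ∈ S), f y = 0 := by
    rw [h1, Finset.sum_image (fun x _ y _ hxy => h.inj hxy)] at h0
    exact h0
  rw [h1, h.indep _ h2, Finset.image_empty]

/-- **ST (3)**: the number of `X`-orbits on `Y` is at most `dim C_V(X)`. -/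
theorem Fr.two_pow_orbits_le [Finite V] (h : Fr T f a) (X : Subgroup T) :
    2 ^ Nat.card (orbitRel.Quotient X Y) ≤ Nat.card {v : V // ∀ x ∈ X, x • v = v} := by
  have hQ : Finite (orbitRel.Quotient X Y) := Quotient.finite _
  have : Fintype (orbitRel.Quotient X Y) := Fintype.ofFinite _
  let g : Finset (orbitRel.Quotient X Y) → {v : V // ∀ x ∈ X, x • v = v} := fun O =>
    ⟨∑ y ∈ Finset.univ.filter (fun y : Y => (Quotient.mk'' y : orbitRel.Quotient X Y) ∈ O), f y, by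
      intro x hx
      rw [← sum_image h]
      congr 1
      ext y
      simp only [Finset.mem_image, Finset.mem_filter, Finset.mem_univ, true_and]
      have hq : ∀ z : Y, (Quotient.mk'' (x • z) : orbitRel.Quotient X Y) = Quotient.mk'' z := by
        intro z
        apply Quotient.sound'
        exact ⟨⟨x, hx⟩, rfl⟩
      constructor
      · rintro ⟨z, hz, rfl⟩
        rw [hq]
        exact hz
      · intro hy
        refine ⟨x⁻¹ • y, ?_, smul_inv_smul x y⟩
        rw [← hq, smul_inv_smul]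
        exact hy⟩
  have hg : Function.Injective g := by
    intro O O' hO
    have h1 := congrArg Subtype.val hO
    have h2 : ∑ y ∈ (Finset.univ.filter (fun y : Y => (Quotient.mk'' y : orbitRel.Quotient X Y) ∈ O)) ∆
        (Finset.univ.filter (fun y : Y => (Quotient.mk'' y : orbitRel.Quotient X Y) ∈ O')), f y = 0 := by
      rw [sum_symmDiff' h.two]
      have h3 : ∑ y ∈ Finset.univ.filter (fun y : Y => (Quotient.mk'' y : orbitRel.Quotient X Y) ∈ O), f y
        = ∑ y ∈ Finset.univ.filter (fun y : Y => (Quotient.mk'' y : orbitRel.Quotient X Y) ∈ O'), f y := h1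
      rw [h3, h.two]
    have h3 := symmDiff_eq_bot.1 (h.indep _ h2)
    ext q
    induction q using Quotient.inductionOn' with
    | h y =>
      have h4 : y ∈ Finset.univ.filter (fun y : Y => (Quotient.mk'' y : orbitRel.Quotient X Y) ∈ O) ↔
        y ∈ Finset.univ.filter (fun y : Y => (Quotient.mk'' y : orbitRel.Quotient X Y) ∈ O') := by rw [h3]
      simpa using h4
  have h1 := Nat.card_le_card_of_injective g hg
  rwa [Nat.card_eq_fintype_card (α := Finset _), Fintype.card_finset, ← Nat.card_eq_fintype_card] at h1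

/-- **ST (4)**: `X` is transitive on `Y`. -/
theorem Fr.trans (h : Fr T f a) (X : Subgroup T)
    (hX : ∀ v : V, (∀ x ∈ X, x • v = v) → v = 0 ∨ v = a) (b c : Y) : ∃ x ∈ X, x • b = c := by
  let O : Finset Y := (Set.toFinite (orbit X b)).toFinset
  have hbO : b ∈ O := (Set.Finite.mem_toFinset _).2 (mem_orbit_self b)
  have hfix : ∀ x ∈ X, x • ∑ d ∈ O, f d = ∑ d ∈ O, f d := by
    intro x hx
    rw [← sum_image h]
    congr 1
    ext d
    simp only [Finset.mem_image]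
    constructor
    · rintro ⟨e, he, rfl⟩
      obtain ⟨y, rfl⟩ := mem_orbit_iff.1 ((Set.Finite.mem_toFinset _).1 he)
      exact (Set.Finite.mem_toFinset _).2 ⟨(⟨x, hx⟩ : X) * y, mul_smul _ _ _⟩
    · intro hd
      obtain ⟨y, rfl⟩ := mem_orbit_iff.1 ((Set.Finite.mem_toFinset _).1 hd)
      refine ⟨((⟨x, hx⟩ : X)⁻¹ * y) • b, (Set.Finite.mem_toFinset _).2 (mem_orbit _ _), ?_⟩
      show x • ((⟨x, hx⟩ : X)⁻¹ * y) • b = y • b
      rw [mul_smul]
      exact smul_inv_smul x _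
  rcases hX _ hfix with h1 | h1
  · have := h.indep O h1
    rw [this] at hbO
    exact absurd hbO (Finset.notMem_empty b)
  · have h2 : ∑ d ∈ O ∆ Finset.univ, f d = 0 := by
      rw [sum_symmDiff' h.two, h1, h.sum, h.two]
    have h4 : O = Finset.univ := symmDiff_eq_bot.1 (h.indep _ h2)
    have h5 : c ∈ O := by rw [h4]; exact Finset.mem_univ _
    obtain ⟨x, hx⟩ := mem_orbit_iff.1 ((Set.Finite.mem_toFinset _).1 h5)
    exact ⟨x, x.2, hx⟩

/-- **ST (5)**: growing the orbit. -/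
theorem Fr.grow' (h : Fr T f a) (X : Subgroup T) (htr : ∀ b c : Y, ∃ x ∈ X, x • b = c)
    (hc : ∀ x ∈ X, ∀ y ∈ X, x * y = y * x) (hs : ∀ x ∈ X, x * x = 1) {c : V}
    (hcP : c ∈ Set.range f) {S : Finset V} (hG : Good X S c) (hS : ∀ b ∈ S, b ∈ Set.range f)
    (hlt : S.card < Fintype.card Y) :
    ∃ x ∈ X, ∃ S' : Finset V, Good X S' c ∧ (∀ b ∈ S', b ∈ Set.range f) ∧ S'.card = 2 * S.card ∧
      ∑ b ∈ S', b = dl x (∑ b ∈ S, b) := by
  have h1 : ∃ d : Y, f d ∉ S := by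
    by_contra h2
    push Not at h2
    have h3 : Finset.univ.image f ⊆ S := by
      intro v hv
      obtain ⟨y, -, rfl⟩ := Finset.mem_image.1 hv
      exact h2 y
    have h4 := Finset.card_le_card h3
    rw [Finset.card_image_of_injective _ h.inj, Finset.card_univ] at h4
    omega
  obtain ⟨d, hdS⟩ := h1
  obtain ⟨c0, rfl⟩ := hcP
  obtain ⟨x, hx, rfl⟩ := htr c0 d
  rw [h.eq] at hdS
  obtain ⟨hG', hdis⟩ := hG.step hc hs hx hdS
  refine ⟨x, hx, _, hG', ?_, ?_, sum_step hdis⟩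
  · intro b hb
    rcases Finset.mem_union.1 hb with hb | hb
    · exact hS b hb
    · obtain ⟨u, hu, rfl⟩ := Finset.mem_image.1 hb
      obtain ⟨y, rfl⟩ := hS u hu
      exact ⟨x • y, h.eq x y⟩
  · rw [Finset.card_union_of_disjoint hdis, Finset.card_image_of_injective _ (MulAction.injective x)]
    omega

/-- **ST (6)**: `[Y, X, X, X, X] = 0` implies `|Y| ≤ 8` (`X` transitive on `Y`). -/
theorem Fr.card_le_eight' (h : Fr T f a) (X : Subgroup T) (htr : ∀ b c : Y, ∃ x ∈ X, x • b = c)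
    (hc : ∀ x ∈ X, ∀ y ∈ X, x * y = y * x) (hs : ∀ x ∈ X, x * x = 1)
    (h4 : ∀ x₁ ∈ X, ∀ x₂ ∈ X, ∀ x₃ ∈ X, ∀ x₄ ∈ X, ∀ v : V,
      dl x₄ (dl x₃ (dl x₂ (dl x₁ v))) = 0) : Fintype.card Y ≤ 8 := by
  by_contra hgt
  push Not at hgt
  have : Nonempty Y := Fintype.card_pos_iff.1 (by omega)
  obtain ⟨y0⟩ := this
  have hcP : f y0 ∈ Set.range f := ⟨y0, rfl⟩
  have hS0 : ∀ b ∈ ({f y0} : Finset V), b ∈ Set.range f := by
    intro b hb
    rw [Finset.mem_singleton] at hb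
    rwa [hb]
  obtain ⟨x₁, hx₁, S₁, g₁, p₁, c₁, s₁⟩ := h.grow' X htr hc hs hcP (Good.base X _) hS0
    (by rw [Finset.card_singleton]; omega)
  rw [Finset.card_singleton] at c₁
  obtain ⟨x₂, hx₂, S₂, g₂, p₂, c₂, s₂⟩ := h.grow' X htr hc hs hcP g₁ p₁ (by omega)
  obtain ⟨x₃, hx₃, S₃, g₃, p₃, c₃, s₃⟩ := h.grow' X htr hc hs hcP g₂ p₂ (by omega)
  obtain ⟨x₄, hx₄, S₄, g₄, p₄, c₄, s₄⟩ := h.grow' X htr hc hs hcP g₃ p₃ (by omega)
  have h5 := h4 x₁ hx₁ x₂ hx₂ x₃ hx₃ x₄ hx₄ (f y0)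
  rw [s₃, s₂, s₁, Finset.sum_singleton, h5] at s₄
  have := h.indepV S₄ p₄ s₄
  rw [this, Finset.card_empty] at c₄
  omega

/-- **ST (7)**: `[f y0, X, X, X] = 0` implies `|Y| ≤ 4` (`X` transitive on `Y`). -/
theorem Fr.card_le_four' (h : Fr T f a) (X : Subgroup T) (htr : ∀ b c : Y, ∃ x ∈ X, x • b = c)
    (hc : ∀ x ∈ X, ∀ y ∈ X, x * y = y * x) (hs : ∀ x ∈ X, x * x = 1) (y0 : Y)
    (h3 : ∀ x₁ ∈ X, ∀ x₂ ∈ X, ∀ x₃ ∈ X, dl x₃ (dl x₂ (dl x₁ (f y0))) = 0) :
    Fintype.card Y ≤ 4 := by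
  by_contra hgt
  push Not at hgt
  have hcP : f y0 ∈ Set.range f := ⟨y0, rfl⟩
  have hS0 : ∀ b ∈ ({f y0} : Finset V), b ∈ Set.range f := by
    intro b hb
    rw [Finset.mem_singleton] at hb
    rwa [hb]
  obtain ⟨x₁, hx₁, S₁, g₁, p₁, c₁, s₁⟩ := h.grow' X htr hc hs hcP (Good.base X _) hS0
    (by rw [Finset.card_singleton]; omega)
  rw [Finset.card_singleton] at c₁
  obtain ⟨x₂, hx₂, S₂, g₂, p₂, c₂, s₂⟩ := h.grow' X htr hc hs hcP g₁ p₁ (by omega)
  obtain ⟨x₃, hx₃, S₃, g₃, p₃, c₃, s₃⟩ := h.grow' X htr hc hs hcP g₂ p₂ (by omega)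
  have h5 := h3 x₁ hx₁ x₂ hx₂ x₃ hx₃
  rw [s₂, s₁, Finset.sum_singleton, h5] at s₃
  have := h.indepV S₃ p₃ s₃
  rw [this, Finset.card_empty] at c₃
  omega

theorem Fr.card_le_eight (h : Fr T f a) (X : Subgroup T)
    (hX : ∀ v : V, (∀ x ∈ X, x • v = v) → v = 0 ∨ v = a)
    (hc : ∀ x ∈ X, ∀ y ∈ X, x * y = y * x) (hs : ∀ x ∈ X, x * x = 1)
    (h4 : ∀ x₁ ∈ X, ∀ x₂ ∈ X, ∀ x₃ ∈ X, ∀ x₄ ∈ X, ∀ v : V,
      dl x₄ (dl x₃ (dl x₂ (dl x₁ v))) = 0) : Fintype.card Y ≤ 8 :=
  h.card_le_eight' X (h.trans X hX) hc hs h4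

theorem Fr.card_le_four (h : Fr T f a) (X : Subgroup T)
    (hX : ∀ v : V, (∀ x ∈ X, x • v = v) → v = 0 ∨ v = a)
    (hc : ∀ x ∈ X, ∀ y ∈ X, x * y = y * x) (hs : ∀ x ∈ X, x * x = 1) (y0 : Y)
    (h3 : ∀ x₁ ∈ X, ∀ x₂ ∈ X, ∀ x₃ ∈ X, dl x₃ (dl x₂ (dl x₁ (f y0))) = 0) :
    Fintype.card Y ≤ 4 :=
  h.card_le_four' X (h.trans X hX) hc hs y0 h3

/-- The span of `f` has at most `2 ^ |Y|` elements. -/
theorem card_closure_le [Finite V] (h2 : ∀ v : V, v + v = 0) (f : Y → V) :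
    Nat.card (AddSubgroup.closure (Set.range f)) ≤ 2 ^ Fintype.card Y := by
  have h1 : ∀ v ∈ AddSubgroup.closure (Set.range f), ∃ S : Finset Y, ∑ y ∈ S, f y = v := by
    intro v hv
    induction hv using AddSubgroup.closure_induction with
    | mem v hv =>
      obtain ⟨y, rfl⟩ := hv
      exact ⟨{y}, Finset.sum_singleton _ _⟩
    | zero => exact ⟨∅, Finset.sum_empty⟩
    | add v w _ _ hv hw =>
      obtain ⟨S, rfl⟩ := hv
      obtain ⟨S', rfl⟩ := hw
      exact ⟨S ∆ S', sum_symmDiff' h2 S S'⟩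
    | neg v _ hv =>
      obtain ⟨S, rfl⟩ := hv
      exact ⟨S, (neg_eq_of_add_eq_zero_left (h2 _)).symm⟩
  choose! g hg using h1
  have h3 : Function.Injective (fun v : AddSubgroup.closure (Set.range f) => g v) := by
    intro v w hvw
    apply Subtype.ext
    rw [← hg v v.2, ← hg w w.2]
    exact congrArg (fun S : Finset Y => ∑ y ∈ S, f y) hvw
  have h4 := Nat.card_le_card_of_injective _ h3
  rwa [Nat.card_eq_fintype_card (α := Finset _), Fintype.card_finset] at h4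

/-- **ST (8)**: the form for the main case. -/
theorem Fr.card_le_four_of_cyc [Finite V] (h : Fr T f a) (X : Subgroup T)
    (hX : ∀ v : V, (∀ x ∈ X, x • v = v) → v = 0 ∨ v = a)
    (hc : ∀ x ∈ X, ∀ y ∈ X, x * y = y * x) (hs : ∀ x ∈ X, x * x = 1)
    (h4 : ∀ x₁ ∈ X, ∀ x₂ ∈ X, ∀ x₃ ∈ X, ∀ x₄ ∈ X, ∀ v : V,
      dl x₄ (dl x₃ (dl x₂ (dl x₁ v))) = 0)
    (hcyc : ∀ v : V, (∀ x₁ ∈ X, ∀ x₂ ∈ X, ∀ x₃ ∈ X, dl x₃ (dl x₂ (dl x₁ v)) = 0) ∨
      ∀ W : AddSubgroup V, (∀ x ∈ X, ∀ w ∈ W, x • w ∈ W) → v ∈ W → W = ⊤)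
    (hbig : 2 ^ 8 < Nat.card V) : Fintype.card Y ≤ 4 := by
  have h8 := h.card_le_eight X hX hc hs h4
  by_contra hgt
  push Not at hgt
  have : Nonempty Y := Fintype.card_pos_iff.1 (by omega)
  obtain ⟨y0⟩ := this
  rcases hcyc (f y0) with h3 | h3
  · have := h.card_le_four X hX hc hs y0 h3
    omega
  · have h5 := h3 (AddSubgroup.closure (Set.range f)) (by
      intro x hx w hw
      induction hw using AddSubgroup.closure_induction with
      | mem v hv =>
        obtain ⟨y, rfl⟩ := hv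
        exact AddSubgroup.subset_closure ⟨x • y, h.eq x y⟩
      | zero => rw [smul_zero]; exact AddSubgroup.zero_mem _
      | add v w _ _ hv hw => rw [smul_add]; exact AddSubgroup.add_mem _ hv hw
      | neg v _ hv => rw [smul_neg]; exact AddSubgroup.neg_mem _ hv)
      (AddSubgroup.subset_closure ⟨y0, rfl⟩)
    have h6 := card_closure_le h.two f
    rw [h5, AddSubgroup.card_top] at h6
    have h7 : 2 ^ Fintype.card Y ≤ 2 ^ 8 := Nat.pow_le_pow_right (by norm_num) h8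
    omega

end Abs

section BN

open Cfsg Cfsg.Agent.LieExceptional.BNPairCore

variable {L V : Type*} [Group L] [AddCommGroup V] [DistribMulAction L V] {P : BNPair L} {a : V}

/-- `g B ↦ g a` -/
noncomputable def ph (P : BNPair L) (a : V) (c : L ⧸ P.B) : V := c.out • a

theorem ph_mk (hB : ∀ b ∈ P.B, b • a = a) (g : L) :
    ph P a (QuotientGroup.mk g) = g • a := by
  obtain ⟨b, hb⟩ := QuotientGroup.mk_out_eq_mul P.B g
  show (QuotientGroup.mk g : L ⧸ P.B).out • a = _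
  rw [hb, mul_smul, hB _ b.2]

theorem ph_smul (hB : ∀ b ∈ P.B, b • a = a) (g : L) (c : L ⧸ P.B) :
    ph P a (g • c) = g • ph P a c := by
  induction c using QuotientGroup.induction_on with
  | H x =>
    rw [show g • (QuotientGroup.mk x : L ⧸ P.B) = QuotientGroup.mk (g * x) from rfl, ph_mk hB,
      ph_mk hB, mul_smul]

/-- The set `B n B / B`. -/
def D (P : BNPair L) (n : L) : Set (L ⧸ P.B) := {c | ∃ b ∈ P.B, c = QuotientGroup.mk (b * n)}

theorem mk_mem_D {n g : L} : (QuotientGroup.mk g : L ⧸ P.B) ∈ D P n ↔ g ∈ C P n := by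
  constructor
  · rintro ⟨b, hb, h⟩
    have h1 := QuotientGroup.eq.1 h
    exact mem_C.2 ⟨b, hb, (g⁻¹ * (b * n))⁻¹, inv_mem h1, by group⟩
  · intro h
    obtain ⟨x, hx, y, hy, rfl⟩ := mem_C.1 h
    refine ⟨x, hx, ?_⟩
    rw [QuotientGroup.eq]
    have h1 : (x * n * y)⁻¹ * (x * n) = y⁻¹ := by group
    rw [h1]
    exact inv_mem hy

theorem out_mem_C {n : L} {c : L ⧸ P.B} (h : c ∈ D P n) : c.out ∈ C P n := by
  rw [← mk_mem_D, QuotientGroup.out_eq']
  exact h

theorem D_congr {n n' : L} (h : n⁻¹ * n' ∈ P.B) : D P n = D P n' := by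
  ext c
  induction c using QuotientGroup.induction_on with
  | H x => rw [mk_mem_D, mk_mem_D, C_eq_of_rel h]

theorem smul_mem_D {n : L} {b : L} (hb : b ∈ P.B) {c : L ⧸ P.B} (h : c ∈ D P n) : b • c ∈ D P n := by
  obtain ⟨x, hx, rfl⟩ := h
  exact ⟨b * x, mul_mem hb hx, by rw [mul_assoc]; rfl⟩

/-- `s B s ⊆ B ∪ B s B`, in the form used below. -/
theorem inv_mul_mem {s : L} (hs : s ∈ P.S) {g g' : L} (hg : g ∈ C P s) (hg' : g' ∈ C P s) :
    g'⁻¹ * g ∈ P.B ∨ g'⁻¹ * g ∈ C P s := by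
  obtain ⟨x, hx, y, hy, rfl⟩ := mem_C.1 hg
  obtain ⟨x', hx', y', hy', rfl⟩ := mem_C.1 hg'
  have h1 : (x' * s * y')⁻¹ * (x * s * y) = (y'⁻¹ * (s * s)⁻¹) * (s * (x'⁻¹ * x) * s) * y := by group
  have hsq : s * s ∈ P.B := P.sq_mem s hs
  rcases axiom_left (P := P) hs (mem_N hs) (mul_mem (inv_mem hx') hx) with h | h
  · left
    rw [h1]
    refine mul_mem (mul_mem (mul_mem (inv_mem hy') (inv_mem hsq)) ?_) hy
    exact mem_B_of_mem_C hsq h
  · right
    rw [h1]
    exact mul_mem_C_right hy (mul_mem_C_left (mul_mem (inv_mem hy') (inv_mem hsq)) h)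

variable [Finite L]

/-- `BnB/B` as a finset. -/
noncomputable def Df (P : BNPair L) (n : L) : Finset (L ⧸ P.B) := (Set.toFinite (D P n)).toFinset

theorem mem_Df {n : L} {c : L ⧸ P.B} : c ∈ Df P n ↔ c ∈ D P n := Set.Finite.mem_toFinset _

theorem Df_congr {n n' : L} (h : n⁻¹ * n' ∈ P.B) : Df P n = Df P n' := by
  ext c
  rw [mem_Df, mem_Df, D_congr h]

theorem Df_mul {s n : L} (hs : s ∈ P.S) (hn : n ∈ P.N) (hle : len P n ≤ len P (s * n)) :
    Df P (s * n) = (Df P s).biUnion fun x => (Df P n).image fun y => x.out • y := by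
  ext c
  simp only [Finset.mem_biUnion, Finset.mem_image, mem_Df]
  constructor
  · rintro ⟨b, hb, rfl⟩
    obtain ⟨b', hb'⟩ := QuotientGroup.mk_out_eq_mul P.B (b * s)
    refine ⟨QuotientGroup.mk (b * s), ⟨b, hb, rfl⟩, QuotientGroup.mk ((b' : L)⁻¹ * n),
      ⟨(b' : L)⁻¹, inv_mem b'.2, rfl⟩, ?_⟩
    rw [hb']
    show (QuotientGroup.mk (b * s * (b' : L) * ((b' : L)⁻¹ * n)) : L ⧸ P.B) = _
    congr 1
    group
  · rintro ⟨x, hx, y, hy, rfl⟩
    have h1 := out_mem_C hx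
    obtain ⟨g, rfl⟩ := QuotientGroup.mk_surjective y
    rw [mk_mem_D] at hy
    show (QuotientGroup.mk (x.out * g) : L ⧸ P.B) ∈ _
    rw [mk_mem_D]
    obtain ⟨b1, hb1, b2, hb2, h2⟩ := mem_C.1 h1
    obtain ⟨b3, hb3, b4, hb4, rfl⟩ := mem_C.1 hy
    rw [h2]
    have h3 : b1 * s * b2 * (b3 * n * b4) = b1 * (s * (b2 * b3) * n) * b4 := by group
    rw [h3]
    exact mul_mem_C_right hb4 (mul_mem_C_left hb1 (mul_mem_C_of_le hs hn (mul_mem hb2 hb3) hle))

theorem Df_disj {s n : L} (hs : s ∈ P.S) (hn : n ∈ P.N) (hle : len P n ≤ len P (s * n)) :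
    ((Df P s : Finset (L ⧸ P.B)) : Set (L ⧸ P.B)).PairwiseDisjoint
      (fun x => (Df P n).image fun y => x.out • y) := by
  intro x hx x' hx' hne
  show Disjoint _ _
  rw [Finset.disjoint_left]
  intro c hc hc'
  obtain ⟨y, hy, rfl⟩ := Finset.mem_image.1 hc
  obtain ⟨y', hy', h⟩ := Finset.mem_image.1 hc'
  have hx1 := out_mem_C (mem_Df.1 (Finset.mem_coe.1 hx))
  have hx1' := out_mem_C (mem_Df.1 (Finset.mem_coe.1 hx'))
  obtain ⟨g, rfl⟩ := QuotientGroup.mk_surjective y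
  rw [mem_Df, mk_mem_D] at hy
  have h2 : y' = QuotientGroup.mk (x'.out⁻¹ * x.out * g) := by
    have : y' = x'.out⁻¹ • x.out • (QuotientGroup.mk g : L ⧸ P.B) := by
      rw [← h, inv_smul_smul]
    rw [this, ← mul_smul]
    rfl
  rw [h2, mem_Df, mk_mem_D] at hy'
  rcases inv_mul_mem hs hx1 hx1' with h3 | h3
  · apply hne
    rw [← QuotientGroup.out_eq' x, ← QuotientGroup.out_eq' x']
    exact (QuotientGroup.eq.2 h3).symm
  · obtain ⟨b1, hb1, b2, hb2, h4⟩ := mem_C.1 h3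
    obtain ⟨b3, hb3, b4, hb4, rfl⟩ := mem_C.1 hy
    have h5 : x'.out⁻¹ * x.out * (b3 * n * b4) = b1 * (s * (b2 * b3) * n) * b4 := by rw [h4]; group
    rw [h5] at hy'
    have h6 := mul_mem_C_right hb4 (mul_mem_C_left hb1 (mul_mem_C_of_le hs hn (mul_mem hb2 hb3) hle))
    exact not_C_mul_left_eq hs hn (C_eq_of_mem_mem h6 hy')

/-- `|BsnB/B| = |BsB/B| |BnB/B|` for `l(sn) > l(n)`. -/
theorem card_mul {s n : L} (hs : s ∈ P.S) (hn : n ∈ P.N) (hle : len P n ≤ len P (s * n)) :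
    (Df P (s * n)).card = (Df P s).card * (Df P n).card := by
  rw [Df_mul hs hn hle, Finset.card_biUnion (Df_disj hs hn hle)]
  have h : ∀ x ∈ Df P s, ((Df P n).image fun y => x.out • y).card = (Df P n).card := fun x _ =>
    Finset.card_image_of_injective _ (MulAction.injective x.out)
  rw [Finset.sum_congr rfl h, Finset.sum_const, smul_eq_mul]

theorem sum_mul (hB : ∀ b ∈ P.B, b • a = a) {s n : L} (hs : s ∈ P.S) (hn : n ∈ P.N)
    (hle : len P n ≤ len P (s * n)) :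
    ∑ c ∈ Df P (s * n), ph P a c = ∑ x ∈ Df P s, x.out • ∑ y ∈ Df P n, ph P a y := by
  rw [Df_mul hs hn hle, Finset.sum_biUnion (Df_disj hs hn hle)]
  refine Finset.sum_congr rfl fun x _ => ?_
  rw [Finset.sum_image (fun _ _ _ _ h => MulAction.injective _ h), Finset.smul_sum]
  exact Finset.sum_congr rfl fun y _ => ph_smul hB _ _

theorem Df_one : Df P (1 : L) = {QuotientGroup.mk 1} := by
  ext c
  rw [mem_Df, Finset.mem_singleton]
  constructor
  · rintro ⟨b, hb, rfl⟩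
    rw [QuotientGroup.eq]
    simpa using inv_mem hb
  · rintro rfl
    exact ⟨1, one_mem _, by rw [one_mul]⟩

/-- `∑_{c ∈ BnB/B} c a = a` along reduced words. -/
theorem sum_D_list (hB : ∀ b ∈ P.B, b • a = a) {J : Set L} (hJ : J ⊆ P.S)
    (h1 : ∀ s ∈ J, ∑ c ∈ Df P s, ph P a c = a) (l : List L) (hl : ∀ s ∈ l, s ∈ J)
    (hred : l.length = len P l.prod) : ∑ c ∈ Df P l.prod, ph P a c = a := by
  induction l with
  | nil =>
    rw [List.prod_nil, Df_one, Finset.sum_singleton, ph_mk hB, one_smul]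
  | cons s l ih =>
    have hs : s ∈ J := hl s (by simp)
    have hl' : ∀ x ∈ l, x ∈ J := fun x hx => hl x (by simp [hx])
    have hlS : ∀ x ∈ l, x ∈ P.S := fun x hx => hJ (hl' x hx)
    have hN : l.prod ∈ P.N := prod_mem_N hlS
    rw [List.prod_cons, List.length_cons] at hred
    have h2 := len_mul_left_le (P := P) (hJ hs) hN
    have h3 := len_prod_le (P := P) hlS
    have h4 : l.length = len P l.prod := by omega
    rw [List.prod_cons, sum_mul hB (hJ hs) hN (by omega), ih hl' h4]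
    exact h1 s hs

theorem sum_D (hB : ∀ b ∈ P.B, b • a = a) {J : Set L} (hJ : J ⊆ P.S)
    (h1 : ∀ s ∈ J, ∑ c ∈ Df P s, ph P a c = a) {n : L} (hn : n ∈ Subgroup.closure J) :
    ∑ c ∈ Df P n, ph P a c = a := by
  obtain ⟨l, hl, hlJ, h2⟩ := exists_reduced_of_mem hJ (Subgroup.mem_sup_left hn :
    n ∈ Subgroup.closure J ⊔ (P.B ⊓ P.N))
  rw [← Df_congr h2]
  exact sum_D_list hB hJ h1 l hlJ (hl.trans (len_congr h2).symm)

/-! ### The nodes moving `a` -/

omit [Finite L] in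
/-- The elements of `P_s` lie in `B ∪ B s B`. -/
theorem mem_parabolic_single {s g : L} (hs : s ∈ P.S) (hg : g ∈ P.parabolic {s}) :
    g ∈ P.B ∨ g ∈ C P s := by
  have hJ : ({s} : Set L) ⊆ P.S := Set.singleton_subset_iff.2 hs
  obtain ⟨n, hn, h⟩ := (mem_parabolic_iff hJ g).1 hg
  have h2 : ∀ n ∈ Subgroup.closure ({s} : Set L), n ∈ P.B ∨ s⁻¹ * n ∈ P.B := by
    intro n hn
    have hsq : s * s ∈ P.B := P.sq_mem s hs
    rw [← Subgroup.zpowers_eq_closure, Subgroup.mem_zpowers_iff] at hn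
    obtain ⟨k, rfl⟩ := hn
    have hz : ∀ m : ℤ, s ^ (2 * m) ∈ P.B := by
      intro m
      rw [zpow_mul, zpow_two]
      exact zpow_mem hsq m
    rcases Int.even_or_odd' k with ⟨m, rfl | rfl⟩
    · exact Or.inl (hz m)
    · right
      have : s⁻¹ * s ^ (2 * m + 1) = s ^ (2 * m) := by
        rw [zpow_add_one]
        have : s ^ (2 * m) * s = s * s ^ (2 * m) := (zpow_mul_comm s (2 * m) 1 |> fun h => by simpa using h)
        rw [this, inv_mul_cancel_left]
      rw [this]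
      exact hz m
  rcases h2 n hn with h3 | h3
  · exact Or.inl (mem_B_of_mem_C h3 h)
  · right
    rwa [C_eq_of_rel h3]

/-- The hypotheses of Theorem ST. -/
structure Hyp (P : BNPair L) (a : V) (T X : Subgroup L) (J : Set L) : Prop where
  two : ∀ v : V, v + v = 0
  pg : IsPGroup 2 T
  TB : T ≤ P.B
  split : ∀ b ∈ P.B, ∃ t ∈ T, t⁻¹ * b ∈ P.N
  fixB : ∀ b ∈ P.B, b • a = a
  XT : X ≤ T
  cen : ∀ v : V, (∀ x ∈ X, x • v = v) → v = 0 ∨ v = a
  comm : ∀ x ∈ X, ∀ y ∈ X, x * y = y * x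
  inv : ∀ x ∈ X, x * x = 1
  four : ∀ x₁ ∈ X, ∀ x₂ ∈ X, ∀ x₃ ∈ X, ∀ x₄ ∈ X, ∀ v : V, dl x₄ (dl x₃ (dl x₂ (dl x₁ v))) = 0
  cyc : ∀ v : V, (∀ x₁ ∈ X, ∀ x₂ ∈ X, ∀ x₃ ∈ X, dl x₃ (dl x₂ (dl x₁ v)) = 0) ∨
      ∀ W : AddSubgroup V, (∀ x ∈ X, ∀ w ∈ W, x • w ∈ W) → v ∈ W → W = ⊤
  big : 2 ^ 8 < Nat.card V
  JS : J ⊆ P.S
  mov : ∀ s ∈ J, s • a ≠ a

variable {T X : Subgroup L} {J : Set L}

omit [Finite L] in
/-- The elements of `BnB` map `a` into `T n a`. -/
theorem Hyp.exists_T (h : Hyp P a T X J) {n : L} (hn : n ∈ P.N) {g : L} (hg : g ∈ C P n) :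
    ∃ t ∈ T, (QuotientGroup.mk g : L ⧸ P.B) = QuotientGroup.mk (t * n) := by
  obtain ⟨b, hb, b', hb', rfl⟩ := mem_C.1 hg
  obtain ⟨t, ht, hN⟩ := h.split b hb
  refine ⟨t, ht, ?_⟩
  rw [QuotientGroup.eq]
  have h1 : (b * n * b')⁻¹ * (t * n) = b'⁻¹ * (n⁻¹ * (t⁻¹ * b) * n)⁻¹ := by group
  rw [h1]
  exact mul_mem (inv_mem hb') (inv_mem (conj_mem_inv hn (mul_mem (inv_mem (h.TB ht)) hb) hN))

/-- `∑_{c ∈ BsB/B} c a = a` for `s ∈ J` (Theorem PERM). -/
theorem Hyp.sum_s [Finite V] (h : Hyp P a T X J) {s : L} (hs : s ∈ J) :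
    ∑ c ∈ Df P s, ph P a c = a := by
  have hsS := h.JS hs
  have hJ : ({s} : Set L) ⊆ P.S := Set.singleton_subset_iff.2 hsS
  have hBP : P.B ≤ P.parabolic {s} := le_sup_left
  have hsP : s ∈ P.parabolic {s} := (mem_parabolic_gen_iff hJ hsS).2 rfl
  let T' : Subgroup (P.parabolic {s}) := T.subgroupOf (P.parabolic {s})
  let X' : Subgroup (P.parabolic {s}) := X.subgroupOf (P.parabolic {s})
  -- elements of `P_s` moving `a`
  have hmov : ∀ g : L, g ∈ C P s → g • a ≠ a := by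
    intro g hg he
    obtain ⟨b, hb, b', hb', rfl⟩ := mem_C.1 hg
    apply h.mov s hs
    rw [mul_smul, h.fixB b' hb', mul_smul] at he
    have h2 := congrArg (fun v => b⁻¹ • v) he
    simp only [inv_smul_smul, h.fixB b⁻¹ (inv_mem hb)] at h2
    exact h2
  have hsit : Sit T' a := by
    refine ⟨h.two, h.pg.comap_of_injective _ (Subgroup.subtype_injective _), ?_, ?_, ?_⟩
    · intro t ht
      exact h.fixB (t : L) (h.TB (Subgroup.mem_subgroupOf.1 ht))
    · have key : ∀ b ∈ Pts (P.parabolic {s}) a, ∃ t ∈ T, b = t • s • a := by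
        rintro b ⟨⟨g, rfl⟩, hb⟩
        rcases mem_parabolic_single hsS g.2 with hg | hg
        · exact absurd (h.fixB (g : L) hg) hb
        · obtain ⟨t, ht, h2⟩ := h.exists_T (mem_N hsS) hg
          refine ⟨t, ht, ?_⟩
          rw [← mul_smul, ← ph_mk h.fixB, ← h2, ph_mk h.fixB]
          rfl
      intro b hb c hc
      obtain ⟨t, ht, rfl⟩ := key b hb
      obtain ⟨t', ht', rfl⟩ := key c hc
      have htT : t' * t⁻¹ ∈ T := T.mul_mem ht' (T.inv_mem ht)
      refine ⟨⟨t' * t⁻¹, hBP (h.TB htT)⟩, Subgroup.mem_subgroupOf.2 htT, ?_⟩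
      show (t' * t⁻¹) • t • s • a = _
      rw [mul_smul, inv_smul_smul]
    · exact ⟨⟨s, hsP⟩, h.mov s hs⟩
  have h1 := hsit.sum_Pts X' (by
    intro v hv
    apply h.cen v
    intro x hx
    exact hv ⟨x, hBP (h.TB (h.XT hx))⟩ (Subgroup.mem_subgroupOf.2 hx))
  have himg : (Set.toFinite (Pts (P.parabolic {s}) a)).toFinset = (Df P s).image (ph P a) := by
    ext v
    rw [Set.Finite.mem_toFinset, Finset.mem_image]
    constructor
    · rintro ⟨⟨g, rfl⟩, hb⟩
      rcases mem_parabolic_single hsS g.2 with hg | hg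
      · exact absurd (h.fixB (g : L) hg) hb
      · exact ⟨QuotientGroup.mk (g : L), mem_Df.2 (mk_mem_D.2 hg), ph_mk h.fixB _⟩
    · rintro ⟨c, hc, rfl⟩
      obtain ⟨g, rfl⟩ := QuotientGroup.mk_surjective c
      rw [mem_Df, mk_mem_D] at hc
      rw [ph_mk h.fixB]
      refine ⟨⟨⟨g, ?_⟩, rfl⟩, hmov g hc⟩
      exact mem_of_mem_C' hBP hc hsP
  have hinj : ∀ c ∈ Df P s, ∀ c' ∈ Df P s, ph P a c = ph P a c' → c = c' := by
    intro c hc c' hc' he
    obtain ⟨g, rfl⟩ := QuotientGroup.mk_surjective c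
    obtain ⟨g', rfl⟩ := QuotientGroup.mk_surjective c'
    rw [mem_Df, mk_mem_D] at hc hc'
    rw [ph_mk h.fixB, ph_mk h.fixB] at he
    rcases inv_mul_mem hsS hc hc' with h3 | h3
    · exact (QuotientGroup.eq.2 h3).symm
    · exfalso
      apply hmov _ h3
      rw [mul_smul, he, inv_smul_smul]
  have h2 := Finset.sum_image (f := fun v : V => v) hinj
  refine h2.symm.trans ?_
  rw [← himg]
  exact h1

/-- The action of `T` on `BnB/B`. -/
@[reducible] def actD (hTB : T ≤ P.B) (n : L) : MulAction T (D P n) where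
  smul t c := ⟨(t : L) • c.1, smul_mem_D (hTB t.2) c.2⟩
  one_smul c := Subtype.ext (one_smul L c.1)
  mul_smul t u c := Subtype.ext (mul_smul (t : L) (u : L) c.1)

/-- **THEOREM ST**: `|BnB/B| ≤ 4` for all `n ∈ ⟨J⟩`. -/
theorem Hyp.card_le [Finite V] (h : Hyp P a T X J) (hne : J.Nonempty) {n : L}
    (hn : n ∈ Subgroup.closure J) : (Df P n).card ≤ 4 := by
  have hnN : n ∈ P.N := (Subgroup.closure_le P.N).2 (fun s hs => mem_N (h.JS hs)) hn
  have ha : a ≠ 0 := by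
    rintro rfl
    obtain ⟨s, hs⟩ := hne
    exact h.mov s hs (smul_zero s)
  let act := actD h.TB n
  have hfin : Fintype (D P n) := Fintype.ofFinite _
  have hfr : Fr T (fun c : D P n => ph P a c.1) a := by
    refine ⟨h.two, h.pg, ?_, ?_, ha, ?_⟩
    · have key : ∀ c : D P n, ∃ t : T, c.1 = QuotientGroup.mk ((t : L) * n) := by
        rintro ⟨c, hc⟩
        obtain ⟨g, rfl⟩ := QuotientGroup.mk_surjective c
        obtain ⟨t, ht, h2⟩ := h.exists_T hnN (mk_mem_D.1 hc)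
        exact ⟨⟨t, ht⟩, h2⟩
      intro b c
      obtain ⟨t, ht⟩ := key b
      obtain ⟨t', ht'⟩ := key c
      refine ⟨t' * t⁻¹, Subtype.ext ?_⟩
      show ((t' * t⁻¹ : T) : L) • b.1 = c.1
      rw [ht, ht']
      show (QuotientGroup.mk (((t' * t⁻¹ : T) : L) * ((t : L) * n)) : L ⧸ P.B) = _
      congr 1
      rw [Subgroup.coe_mul, Subgroup.coe_inv]
      group
    · intro t y
      exact ph_smul h.fixB (t : L) y.1
    · have h1 := sum_D h.fixB h.JS (fun s hs => h.sum_s hs) hn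
      exact (Finset.sum_subtype (Df P n) (fun c => mem_Df) (ph P a)).symm.trans h1
  have h1 := hfr.card_le_four_of_cyc (X.subgroupOf T) (by
      intro v hv
      apply h.cen v
      intro x hx
      exact hv ⟨x, h.XT hx⟩ (Subgroup.mem_subgroupOf.2 hx))
    (fun x hx y hy => Subtype.ext (h.comm x (Subgroup.mem_subgroupOf.1 hx) y (Subgroup.mem_subgroupOf.1 hy)))
    (fun x hx => Subtype.ext (h.inv x (Subgroup.mem_subgroupOf.1 hx)))
    (fun x₁ h₁ x₂ h₂ x₃ h₃ x₄ h₄ v => h.four x₁ (Subgroup.mem_subgroupOf.1 h₁) x₂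
      (Subgroup.mem_subgroupOf.1 h₂) x₃ (Subgroup.mem_subgroupOf.1 h₃) x₄ (Subgroup.mem_subgroupOf.1 h₄) v)
    (fun v => by
      rcases h.cyc v with h2 | h2
      · left
        intro x₁ h₁ x₂ h₂ x₃ h₃
        exact h2 x₁ (Subgroup.mem_subgroupOf.1 h₁) x₂ (Subgroup.mem_subgroupOf.1 h₂) x₃
          (Subgroup.mem_subgroupOf.1 h₃)
      · right
        intro W hW hv
        exact h2 W (fun x hx w hw => hW ⟨x, h.XT hx⟩ (Subgroup.mem_subgroupOf.2 hx) w hw) hv)
    h.big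
  have h2 : (Df P n).card = Fintype.card (D P n) := by
    rw [← Nat.card_eq_fintype_card, Nat.card_coe_set_eq]
    exact (Set.ncard_eq_toFinset_card (D P n) (Set.toFinite _)).symm
  rwa [h2]

/-- `q_s ≥ 2`. -/
theorem two_le_card {s : L} (hs : s ∈ P.S) : 2 ≤ (Df P s).card := by
  by_contra hlt
  push Not at hlt
  obtain ⟨b, hb, hC⟩ := exists_mem_C_self (P := P) hs
  have h1 : (QuotientGroup.mk s : L ⧸ P.B) ∈ Df P s := mem_Df.2 (mk_mem_D.2 (self_mem_C s))
  have h2 : (QuotientGroup.mk (b * s) : L ⧸ P.B) ∈ Df P s :=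
    mem_Df.2 (mk_mem_D.2 (mul_mem_C_left hb (self_mem_C s)))
  have h3 := Finset.card_le_one.1 (Nat.lt_succ_iff.1 hlt) _ h1 _ h2
  rw [QuotientGroup.eq] at h3
  have h4 : s * b * s ∈ P.B := by
    have : s * b * s = (s * s) * (s⁻¹ * (b * s)) := by group
    rw [this]
    exact mul_mem (P.sq_mem s hs) h3
  have h5 : s ∈ P.B := mem_of_mem_C le_rfl hC h4
  exact not_mem_B hs h5

/-- One node: `q_s ≤ 4`. -/
theorem Hyp.single [Finite V] (h : Hyp P a T X J) {s : L} (hs : s ∈ J) :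
    2 ≤ (Df P s).card ∧ (Df P s).card ≤ 4 :=
  ⟨two_le_card (h.JS hs), h.card_le ⟨s, hs⟩ (Subgroup.subset_closure hs)⟩

omit [Finite L] in
theorem len_two {s s' : L} (hs : s ∈ P.S) (hs' : s' ∈ P.S) (hne : s ≠ s') :
    len P s' ≤ len P (s * s') := by
  by_contra hlt
  push Not at hlt
  have h1 : len P (s * [s'].prod) ≤ len P [s'].prod := by
    rw [List.prod_singleton]; exact hlt.le
  obtain ⟨l₁, x, l₂, h2, h3⟩ := exchange hs [s'] (by simpa using hs') h1
  have h4 : l₁ = [] ∧ x = s' ∧ l₂ = [] := by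
    rcases l₁ with _ | ⟨y, l₁⟩
    · simpa [eq_comm] using h2
    · simp at h2
  obtain ⟨rfl, rfl, rfl⟩ := h4
  rw [List.prod_nil, mul_one, one_mul] at h3
  exact hne (P.inj s hs _ hs' h3)

/-- Two nodes: they commute and `q_s = q_s' = 2`. -/
theorem Hyp.pair [Finite V] (h : Hyp P a T X J) {s s' : L} (hs : s ∈ J) (hs' : s' ∈ J)
    (hne : s ≠ s') : (s * s')⁻¹ * (s' * s) ∈ P.B ∧ (Df P s).card = 2 ∧ (Df P s').card = 2 := by
  have hsS := h.JS hs
  have hsS' := h.JS hs'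
  have c1 := two_le_card hsS
  have c2 := two_le_card hsS'
  have hm : s * s' ∈ Subgroup.closure J :=
    mul_mem (Subgroup.subset_closure hs) (Subgroup.subset_closure hs')
  have c3 := h.card_le ⟨s, hs⟩ hm
  rw [card_mul hsS (mem_N hsS') (len_two hsS hsS' hne)] at c3
  refine ⟨?_, by nlinarith, by nlinarith⟩
  by_contra hcomm
  have h1 : len P (s * s') ≤ len P (s' * (s * s')) := by
    by_contra hlt
    push Not at hlt
    have h1 : len P (s' * [s, s'].prod) ≤ len P [s, s'].prod := by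
      simp only [List.prod_cons, List.prod_nil, mul_one]
      exact hlt.le
    obtain ⟨l₁, x, l₂, h2, h3⟩ := exchange hsS' [s, s'] (by
      intro y hy
      simp only [List.mem_cons, List.not_mem_nil, or_false] at hy
      rcases hy with rfl | rfl
      · exact hsS
      · exact hsS') h1
    rcases l₁ with _ | ⟨y, l₁⟩
    · simp only [List.nil_append, List.cons.injEq] at h2
      obtain ⟨rfl, -⟩ := h2
      rw [List.prod_nil, mul_one, one_mul] at h3
      exact hne (P.inj s' hsS' _ hsS h3).symm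
    · rcases l₁ with _ | ⟨z, l₁⟩
      · simp only [List.cons_append, List.nil_append, List.cons.injEq] at h2
        obtain ⟨rfl, rfl, -⟩ := h2
        rw [List.prod_singleton] at h3
        exact hcomm (rel_symm h3)
      · simp at h2
  have hm2 : s' * (s * s') ∈ Subgroup.closure J := mul_mem (Subgroup.subset_closure hs') hm
  have c4 := h.card_le ⟨s, hs⟩ hm2
  rw [card_mul hsS' (mul_mem (mem_N hsS) (mem_N hsS')) h1,
    card_mul hsS (mem_N hsS') (len_two hsS hsS' hne)] at c4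
  nlinarith

/-- There are no three nodes. -/
theorem Hyp.triple [Finite V] (h : Hyp P a T X J) {r s s' : L} (hr : r ∈ J) (hs : s ∈ J)
    (hs' : s' ∈ J) (h1 : r ≠ s) (h2 : r ≠ s') (h3 : s ≠ s') : False := by
  have hrS := h.JS hr
  have hsS := h.JS hs
  have hsS' := h.JS hs'
  have c1 := two_le_card hsS
  have c2 := two_le_card hsS'
  have c3 := two_le_card hrS
  have hcm := (h.pair hr hs h1).1
  have hle : len P (s * s') ≤ len P (r * (s * s')) := by
    by_contra hlt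
    push Not at hlt
    have h1' : len P (r * [s, s'].prod) ≤ len P [s, s'].prod := by
      simp only [List.prod_cons, List.prod_nil, mul_one]
      exact hlt.le
    obtain ⟨l₁, x, l₂, h2', h3'⟩ := exchange hrS [s, s'] (by
      intro y hy
      simp only [List.mem_cons, List.not_mem_nil, or_false] at hy
      rcases hy with rfl | rfl
      · exact hsS
      · exact hsS') h1'
    rcases l₁ with _ | ⟨y, l₁⟩
    · simp only [List.nil_append, List.cons.injEq] at h2'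
      obtain ⟨rfl, -⟩ := h2'
      rw [List.prod_nil, mul_one, one_mul] at h3'
      exact h1 (P.inj r hrS _ hsS h3')
    · rcases l₁ with _ | ⟨z, l₁⟩
      · simp only [List.cons_append, List.nil_append, List.cons.injEq] at h2'
        obtain ⟨rfl, rfl, -⟩ := h2'
        rw [List.prod_singleton] at h3'
        have h5 := rel_trans (rel_symm hcm) h3'
        have h6 : (s * r)⁻¹ * (s * s') = r⁻¹ * s' := by group
        rw [h6] at h5
        exact h2 (P.inj r hrS _ hsS' h5)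
      · simp at h2'
  have hm : r * (s * s') ∈ Subgroup.closure J :=
    mul_mem (Subgroup.subset_closure hr) (mul_mem (Subgroup.subset_closure hs) (Subgroup.subset_closure hs'))
  have c4 := h.card_le ⟨s, hs⟩ hm
  rw [card_mul hrS (mul_mem (mem_N hsS) (mem_N hsS')) hle,
    card_mul hsS (mem_N hsS') (len_two hsS hsS' h3)] at c4
  nlinarith [Nat.mul_le_mul c1 c2]

end BN

end Cfsg.Agent.Omega.EH3.ST

end
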