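import Cfsg.Agent.StrongEmb.Strong
import Cfsg.Agent.Mrg.Omega.VP


/-!
# EH3: Bender's theorem in `Ctx` (helper754)
-/

set_option autoImplicit false

namespace Cfsg.Agent.Omega.EH3.Bender

open Cfsg
open Cfsg.Agent.Omega.Frame (Ctx)

universe u

/-- the input `hB` of `EH3.Top.eq_top` -/
theorem hB {G : Type u} [Group G] [Finite G] (hG : Ctx G) (H : Subgroup G) (hH : IsStronglyEmbedded H) :
    ∃ R : Subgroup G, Cfsg.Agent.StrongEmb.Split.IsSplit H R := by
  have := hG.simple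
  obtain ⟨R, hR, -⟩ := Cfsg.Agent.StrongEmb.Strong.exists_isSplit (by
    by_contra hcon
    push Not at hcon
    exact hG.nonComm ⟨⟨hcon⟩⟩) H hH
  exact ⟨R, hR⟩

end Cfsg.Agent.Omega.EH3.Bender
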