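import Cfsg.Agent.Mrg.Omega.EH3.CLPlug
import Cfsg.Agent.Mrg.Omega.EH3.Clif.Ker


/-!
# EH3: THEOREM CL is closed (helper291, helper947, helper807)
-/

set_option autoImplicit false

namespace Cfsg.Agent.Omega.EH3.CLDone

universe u

/-- the component of the configuration is unique (helper291) -/
theorem unique : CLPlug.Unique.{u} :=
  fun _ _ _ _ _ _ _ _ _ _ _ _ C hev _ _ hK hK' => Clif.component_unique C hev hK hK'

/-- **THEOREM CL.** -/
theorem cl : Main.CL.{u} := CLPlug.cl_of unique

end Cfsg.Agent.Omega.EH3.CLDone
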