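import Cfsg.Agent.Mrg.Omega.EH3.Main
import Cfsg.Agent.Mrg.Omega.EH3.CLOut
import Cfsg.Agent.S0205
import Cfsg.Agent.Omega.EH3.Cons
import Cfsg.Agent.Omega.EH3.Row

section


/-!
# EH3: THEOREM CL from the uniqueness of the component (helper947)

* `Unique` : the configuration `Cfg` has exactly one component, if every component has even order (helper291);
* `cl_of` : `Unique → Main.CL` (Feit-Thompson: `S0205`).
-/

set_option autoImplicit false

namespace Cfsg.Agent.Omega.EH3.CLPlug

universe u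

/-- the uniqueness of the component -/
def Unique : Prop :=
  ∀ (H V : Type u) [Group H] [AddCommGroup V] [Module (ZMod 2) V] (ρ : H →* (V ≃ₗ[ZMod 2] V))
    (b : LinearMap.BilinForm (ZMod 2) V) (q : V → ZMod 2) (a : V) (D : Submodule (ZMod 2) V) (X : Subgroup H) (w : ℕ),
    Cfg ρ b q a D X w → (∀ K : Subgroup H, Cfsg.IsComponent K → Even (Nat.card K)) →
    ∀ K K' : Subgroup H, Cfsg.IsComponent K → Cfsg.IsComponent K' → K = K'

theorem cl_of (h : Unique.{u}) : Main.CL.{u} := by
  intro H V _ _ _ ρ b q a D X w C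
  have := C.finite_H
  obtain ⟨L, hn, hq, ho, h4⟩ := CLOut.main C (fun K hK => S0205.result hK) (h H V ρ b q a D X w C)
  refine ⟨L, hn, hq, ho, h4.imp_right ?_⟩
  rintro ⟨d, t, h1, h2, h3, h5, h6, h7, h8, h9⟩
  exact ⟨d, t, ⟨h1, h2, h3, h5, h6, h7, h8, h9⟩⟩

end Cfsg.Agent.Omega.EH3.CLPlug

end

section


/-!
# EH3: `C_H(L)` has odd order if `|V| < |smallest module|²` (helper586)

In the configuration `Cfg` let `L` be normal in `H`, an odd cover of `K`, `LBs K n` with `w < n`.  An involution `t` of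
`C_H(L)` gives the `L`-invariant space `W = [V, t]`, `|W|² ≤ |V|`, with the invariant nondegenerate alternating form
`(tv + v, tu + u) ↦ b v (tu + u)`, and `C_W(L) = 0`; this contradicts `LBs K n`.  If moreover all automorphisms of `K`
are inner and `X ∩ C_H(L) = 1` then `C_H(L) = 1` and `H = L ≅ K`.
-/

set_option autoImplicit false

namespace Cfsg.Agent.Omega.EH3.CentOdd

open Subgroup Cfsg.Agent.Omega.TwoF
open scoped commutatorElement

universe u v w'

section free

variable {H V : Type*} [Group H] [AddCommGroup V] [Module (ZMod 2) V]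
  {ρ : H →* (V ≃ₗ[ZMod 2] V)} {b : LinearMap.BilinForm (ZMod 2) V} {q : V → ZMod 2}
  {a : V} {D : Submodule (ZMod 2) V} {X : Subgroup H} {w : ℕ} {L : Subgroup H}

/-- the fixed space of a normal subgroup `≠ 1` is `0` -/
theorem fix_zero (C : Cfg ρ b q a D X w) (hL : L.Normal) (h1 : L ≠ ⊥) {v : V}
    (hv : ∀ l ∈ L, ρ l v = v) : v = 0 := by
  have hinv : ∀ h, ∀ u ∈ C.fixV L, ρ h u ∈ C.fixV L := by
    intro h u hu n hn
    have h1 := hu _ (hL.conj_mem n hn h⁻¹)
    have h2 : ρ (h * (h⁻¹ * n * h⁻¹⁻¹)) u = ρ (n * h) u := by congr 2; group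
    rw [← C.ρ_mul, ← h2, C.ρ_mul, h1]
  rcases C.irr _ hinv with h | h
  · have : v ∈ C.fixV L := hv
    rw [h] at this
    exact this
  · exfalso
    apply h1
    rw [eq_bot_iff]
    intro n hn
    rw [Subgroup.mem_bot]
    apply C.ext
    intro u
    have : u ∈ C.fixV L := by rw [h]; trivial
    rw [this n hn, C.ρ_one]

/-- an `L`-invariant linear functional is `0` -/
theorem functional_zero (C : Cfg ρ b q a D X w) (hL : L.Normal) (h1 : L ≠ ⊥) (f : V → ZMod 2)
    (hf : ∀ u v, f (u + v) = f u + f v) (hi : ∀ l ∈ L, ∀ v, f (ρ l v) = f v) (v : V) : f v = 0 := by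
  let W : Submodule (ZMod 2) V := Submodule.span (ZMod 2) {x | ∃ l ∈ L, ∃ v, x = ρ l v + v}
  have hinv : ∀ h, ∀ u ∈ W, ρ h u ∈ W := by
    intro h u hu
    refine Submodule.span_induction (p := fun u _ => ρ h u ∈ W) ?_ ?_ ?_ ?_ hu
    · rintro _ ⟨l, hl, v, rfl⟩
      refine Submodule.subset_span ⟨h * l * h⁻¹, hL.conj_mem l hl h, ρ h v, ?_⟩
      rw [map_add, ← C.ρ_mul, ← C.ρ_mul]
      congr 3
      group
    · rw [map_zero]; exact W.zero_mem
    · intro x y _ _ hx hy
      rw [map_add]; exact W.add_mem hx hy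
    · intro k x _ hx
      rw [map_smul]; exact W.smul_mem k hx
  have hW : ∀ u ∈ W, f u = 0 := by
    intro u hu
    refine Submodule.span_induction (p := fun u _ => f u = 0) ?_ ?_ ?_ ?_ hu
    · rintro _ ⟨l, hl, v, rfl⟩
      rw [hf, hi l hl, CharTwo.add_self_eq_zero]
    · have := hf 0 0
      rw [add_zero] at this
      exact (left_eq_add.1 this)
    · intro x y _ _ hx hy
      rw [hf, hx, hy, add_zero]
    · intro k x _ hx
      rcases zmod_two k with h | h
      · rw [h, zero_smul]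
        have := hf 0 0
        rw [add_zero] at this
        exact (left_eq_add.1 this)
      · rw [h, one_smul, hx]
  rcases C.irr W hinv with h | h
  · exfalso
    apply h1
    rw [eq_bot_iff]
    intro l hl
    rw [Subgroup.mem_bot]
    apply C.ext
    intro u
    have h2 : ρ l u + u ∈ W := Submodule.subset_span ⟨l, hl, u, rfl⟩
    rw [h, Submodule.mem_bot] at h2
    rw [C.ρ_one]
    exact C.add_eq_zero.1 h2
  · exact hW v (by rw [h]; trivial)

/-- the commutator space of `t` -/
def comm (ρ : H →* (V ≃ₗ[ZMod 2] V)) (t : H) : Submodule (ZMod 2) V where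
  carrier := {x | ∃ v, x = ρ t v + v}
  zero_mem' := ⟨0, by rw [map_zero, add_zero]⟩
  add_mem' := by
    rintro _ _ ⟨v, rfl⟩ ⟨v', rfl⟩
    exact ⟨v + v', by rw [map_add]; abel⟩
  smul_mem' := by
    rintro k _ ⟨v, rfl⟩
    exact ⟨k • v, by rw [map_smul, smul_add]⟩

theorem mem_comm {t : H} {x : V} : x ∈ comm ρ t ↔ ∃ v, x = ρ t v + v := Iff.rfl

/-- the action of `L` on `[V, t]` -/
def resAct (ρ : H →* (V ≃ₗ[ZMod 2] V)) (L : Subgroup H) (W : Submodule (ZMod 2) V)
    (hW : ∀ l ∈ L, ∀ v ∈ W, ρ l v ∈ W) : L →* MulAut (Multiplicative W) where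
  toFun l :=
    { toFun := fun x => Multiplicative.ofAdd ⟨ρ (l : H) (Multiplicative.toAdd x : W), hW l l.2 _ (Multiplicative.toAdd x : W).2⟩
      invFun := fun x => Multiplicative.ofAdd ⟨ρ ((l⁻¹ : L) : H) (Multiplicative.toAdd x : W), hW _ (l⁻¹).2 _ (Multiplicative.toAdd x : W).2⟩
      left_inv := by
        intro x
        apply Multiplicative.toAdd.injective
        apply Subtype.ext
        show ρ ((l⁻¹ : L) : H) (ρ (l : H) _) = _
        rw [← LinearEquiv.mul_apply, ← map_mul, ← Subgroup.coe_mul, inv_mul_cancel, Subgroup.coe_one, map_one]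
        rfl
      right_inv := by
        intro x
        apply Multiplicative.toAdd.injective
        apply Subtype.ext
        show ρ (l : H) (ρ ((l⁻¹ : L) : H) _) = _
        rw [← LinearEquiv.mul_apply, ← map_mul, ← Subgroup.coe_mul, mul_inv_cancel, Subgroup.coe_one, map_one]
        rfl
      map_mul' := by
        intro x y
        apply Multiplicative.toAdd.injective
        apply Subtype.ext
        show ρ (l : H) (((Multiplicative.toAdd x : W) : V) + ((Multiplicative.toAdd y : W) : V)) = _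
        rw [map_add]
        rfl }
  map_one' := by
    refine MulEquiv.ext fun x => ?_
    apply Multiplicative.toAdd.injective
    apply Subtype.ext
    show ρ ((1 : L) : H) _ = _
    rw [Subgroup.coe_one, map_one]
    rfl
  map_mul' := by
    intro g h
    refine MulEquiv.ext fun x => ?_
    apply Multiplicative.toAdd.injective
    apply Subtype.ext
    show ρ ((g * h : L) : H) _ = ρ (g : H) (ρ (h : H) _)
    rw [Subgroup.coe_mul, map_mul]
    rfl

theorem resAct_apply {W : Submodule (ZMod 2) V} (hW : ∀ l ∈ L, ∀ v ∈ W, ρ l v ∈ W) (l : L)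
    (x : Multiplicative W) :
    ((Multiplicative.toAdd (resAct ρ L W hW l x) : W) : V) = ρ (l : H) (Multiplicative.toAdd x : W) := rfl

/-- the form on `[V, t]` -/
noncomputable def frm (ρ : H →* (V ≃ₗ[ZMod 2] V)) (b : LinearMap.BilinForm (ZMod 2) V) (t : H)
    (x y : Multiplicative (comm ρ t)) : ZMod 2 :=
  b (Multiplicative.toAdd x : comm ρ t) (Multiplicative.toAdd y : comm ρ t).2.choose

theorem b_comm_apply (C : Cfg ρ b q a D X w) {t : H} (ht : t * t = 1) (v u : V) :
    b v (ρ t u + u) = b (ρ t v + v) u := by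
  have h1 := C.b_inv t v (ρ t u)
  rw [← C.ρ_mul, ht, C.ρ_one] at h1
  rw [map_add, map_add, LinearMap.add_apply, ← h1]

theorem frm_eq (C : Cfg ρ b q a D X w) {t : H} (ht : t * t = 1) (x y : Multiplicative (comm ρ t)) {u : V}
    (hu : ((Multiplicative.toAdd y : comm ρ t) : V) = ρ t u + u) :
    frm ρ b t x y = b (Multiplicative.toAdd x : comm ρ t) u := by
  unfold frm
  obtain ⟨v, hv⟩ := mem_comm.1 (Multiplicative.toAdd x : comm ρ t).2
  have h1 := (Multiplicative.toAdd y : comm ρ t).2.choose_spec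
  rw [hv, ← b_comm_apply C ht, ← b_comm_apply C ht, ← h1, ← hu]

end free

variable {K : Type v} [Group K] {H V : Type u} [Group H] [AddCommGroup V] [Module (ZMod 2) V]
  {ρ : H →* (V ≃ₗ[ZMod 2] V)} {b : LinearMap.BilinForm (ZMod 2) V} {q : V → ZMod 2} {a : V}
  {D : Submodule (ZMod 2) V} {X : Subgroup H} {w : ℕ} {L : Subgroup H} {π : L →* K}

/-- **`C_H(L)` has no involutions** -/
theorem no_invol (C : Cfg ρ b q a D X w) (hL : L.Normal) [Nontrivial K] (hπ : OddCover π) {n : ℕ}
    (hn : LBs.{u} K n) (hwn : w < n) {t : H} (htc : ∀ l ∈ L, t * l = l * t) (ht : t * t = 1) : t = 1 := by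
  have := C.finite_V
  have := C.finite_H
  have hL1 : L ≠ ⊥ := by
    rintro rfl
    obtain ⟨k, hk⟩ := exists_ne (1 : K)
    obtain ⟨l, rfl⟩ := hπ.surj k
    exact hk (by rw [Subsingleton.elim l 1, map_one])
  by_contra hne
  have hW : ∀ l ∈ L, ∀ v ∈ comm ρ t, ρ l v ∈ comm ρ t := by
    rintro l hl _ ⟨v, rfl⟩
    refine ⟨ρ l v, ?_⟩
    rw [map_add, ← C.ρ_mul, ← C.ρ_mul, htc l hl]
  -- the functional `v ↦ b v (t v)` vanishes
  have halt : ∀ v, b v (ρ t v) = 0 := by
    apply functional_zero C hL hL1 (fun v => b v (ρ t v))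
    · intro u v
      have h1 := C.b_inv t v (ρ t u)
      rw [← C.ρ_mul, ht, C.ρ_one, C.b_comm] at h1
      show b (u + v) (ρ t (u + v)) = b u (ρ t u) + b v (ρ t v)
      rw [map_add, map_add, LinearMap.add_apply, map_add, map_add, ← h1]
      have := CharTwo.add_self_eq_zero (b u (ρ t v))
      linear_combination this
    · intro l hl v
      show b (ρ l v) (ρ t (ρ l v)) = b v (ρ t v)
      rw [← C.ρ_mul, htc l hl, C.ρ_mul, C.b_inv]
  have h1 := hn L π hπ (Multiplicative (comm ρ t)) (resAct ρ L (comm ρ t) hW) (frm ρ b t)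
    { add_left := by
        intro x y z
        obtain ⟨u, hu⟩ := mem_comm.1 (Multiplicative.toAdd z : comm ρ t).2
        rw [frm_eq C ht _ _ hu, frm_eq C ht _ _ hu, frm_eq C ht _ _ hu, toAdd_mul, Submodule.coe_add, map_add,
          LinearMap.add_apply]
      add_right := by
        intro x y z
        obtain ⟨u, hu⟩ := mem_comm.1 (Multiplicative.toAdd y : comm ρ t).2
        obtain ⟨u', hu'⟩ := mem_comm.1 (Multiplicative.toAdd z : comm ρ t).2
        have h3 : ((Multiplicative.toAdd (y * z) : comm ρ t) : V) = ρ t (u + u') + (u + u') := by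
          rw [toAdd_mul, Submodule.coe_add, hu, hu', map_add]; abel
        rw [frm_eq C ht _ _ hu, frm_eq C ht _ _ hu', frm_eq C ht _ _ h3, map_add]
      alt := by
        intro x
        obtain ⟨u, hu⟩ := mem_comm.1 (Multiplicative.toAdd x : comm ρ t).2
        rw [frm_eq C ht _ _ hu, hu, map_add, LinearMap.add_apply, C.b_self, add_zero, C.b_comm]
        exact halt u
      nondeg := by
        intro x hx
        have h4 : ((Multiplicative.toAdd x : comm ρ t) : V) = 0 := by
          apply C.nondeg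
          intro u
          have h5 := hx (Multiplicative.ofAdd ⟨ρ t u + u, u, rfl⟩)
          rwa [frm_eq C ht _ _ (u := u) rfl] at h5
        apply Multiplicative.toAdd.injective
        exact Subtype.ext h4 }
    (by
      intro g x y
      obtain ⟨u, hu⟩ := mem_comm.1 (Multiplicative.toAdd y : comm ρ t).2
      have h3 : ((Multiplicative.toAdd (resAct ρ L (comm ρ t) hW g y) : comm ρ t) : V) =
          ρ t (ρ (g : H) u) + ρ (g : H) u := by
        rw [resAct_apply, hu, map_add, ← C.ρ_mul, ← C.ρ_mul, htc _ g.2]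
      rw [frm_eq C ht _ _ hu, frm_eq C ht _ _ h3, resAct_apply, C.b_inv])
    (by
      intro x
      apply Multiplicative.toAdd.injective
      apply Subtype.ext
      rw [pow_two, toAdd_mul, Submodule.coe_add, C.add_self]
      rfl)
    (by
      intro h
      apply hne
      apply C.ext
      intro v
      rw [C.ρ_one, ← C.add_eq_zero]
      apply fix_zero C hL hL1
      intro l hl
      have h3 := DFunLike.congr_fun (DFunLike.congr_fun h ⟨l, hl⟩)
        (Multiplicative.ofAdd (⟨ρ t v + v, v, rfl⟩ : comm ρ t))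
      exact congrArg (fun x : Multiplicative (comm ρ t) => ((Multiplicative.toAdd x : comm ρ t) : V)) h3)
  -- `|W|² ≤ |V|`
  have h2 : Nat.card (comm ρ t) * Nat.card (comm ρ t) ≤ Nat.card V := by
    let f : V →+ V := ((ρ t : V ≃ₗ[ZMod 2] V).toLinearMap + LinearMap.id : V →ₗ[ZMod 2] V).toAddMonoidHom
    have hf : ∀ v, f v = ρ t v + v := fun _ => rfl
    have hr : Nat.card f.range = Nat.card (comm ρ t) := by
      apply Nat.card_congr
      refine Equiv.subtypeEquivRight ?_
      intro x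
      rw [AddMonoidHom.mem_range, mem_comm]
      exact exists_congr fun v => ⟨fun h => h.symm, fun h => h.symm⟩
    have hk : Nat.card (comm ρ t) ≤ Nat.card f.ker := by
      rw [← hr]
      apply Nat.card_le_card_of_injective (fun x : f.range => (⟨x.1, by
        obtain ⟨v, hv⟩ := x.2
        rw [AddMonoidHom.mem_ker, ← hv, hf, hf, map_add, ← C.ρ_mul, ht, C.ρ_one, add_comm v, C.add_self]⟩ : f.ker))
      intro x y hxy
      exact Subtype.ext (congrArg (fun z : f.ker => (z : V)) hxy)
    have h3 := f.ker.card_mul_index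
    rw [AddSubgroup.index_ker, hr] at h3
    calc Nat.card (comm ρ t) * Nat.card (comm ρ t) ≤ Nat.card f.ker * Nat.card (comm ρ t) :=
          Nat.mul_le_mul_right _ hk
      _ = Nat.card V := h3
  have h3 : Nat.card (Multiplicative (comm ρ t)) = Nat.card (comm ρ t) := rfl
  rw [h3] at h1
  have h4 : 2 ^ n * 2 ^ n ≤ 2 ^ (2 * w) := by
    rw [← C.card_V]
    exact (Nat.mul_le_mul h1 h1).trans h2
  rw [← pow_add, Nat.pow_le_pow_iff_right (by norm_num)] at h4
  omega

theorem odd_cent (C : Cfg ρ b q a D X w) (hL : L.Normal) [Nontrivial K] (hπ : OddCover π) {n : ℕ}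
    (hn : LBs.{u} K n) (hwn : w < n) : Odd (Nat.card (centralizer (L : Set H))) := by
  have := C.finite_H
  rw [← Nat.not_even_iff_odd]
  intro h
  obtain ⟨t, ht⟩ := exists_prime_orderOf_dvd_card' (G := centralizer (L : Set H)) 2 (even_iff_two_dvd.1 h)
  have h1 : (t : H) * t = 1 := by
    have := pow_orderOf_eq_one t
    rw [ht, pow_two] at this
    exact congrArg Subtype.val this
  have h2 := no_invol C hL hπ hn hwn (t := t) (fun l hl => (mem_centralizer_iff.1 t.2 l hl).symm) h1
  have h3 : t = 1 := Subtype.ext h2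
  rw [h3, orderOf_one] at ht
  omega

theorem comm_aux {H : Type*} [Group H] {z e u v : H} (c1 : Commute e u) (c2 : Commute z v)
    (c3 : Commute z u) (c4 : Commute e v) (c5 : Commute z e) :
    z * u * (e * v) * (z * u)⁻¹ * (e * v)⁻¹ = u * v * u⁻¹ * v⁻¹ := by
  have hz : Commute z (e * (u * v * u⁻¹)) := c5.mul_right ((c3.mul_right c2).mul_right c3.inv_right)
  have he : Commute e (u * v * u⁻¹ * v⁻¹) := ((c1.mul_right c4).mul_right c1.inv_right).mul_right c4.inv_right
  calc z * u * (e * v) * (z * u)⁻¹ * (e * v)⁻¹ = z * (u * e) * v * u⁻¹ * z⁻¹ * v⁻¹ * e⁻¹ := by group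
    _ = (z * (e * (u * v * u⁻¹))) * z⁻¹ * v⁻¹ * e⁻¹ := by rw [← c1.eq]; group
    _ = (e * (u * v * u⁻¹ * v⁻¹)) * e⁻¹ := by rw [hz.eq]; group
    _ = u * v * u⁻¹ * v⁻¹ := by rw [he.eq]; group

/-- the kernel of the action on the odd cover -/
theorem cent_of_mod {L : Subgroup H} (hp : commutator L = ⊤) {π : L →* K} (hk : π.ker ≤ center L) [L.Normal] {x : H}
    (h : ∀ l : L, π ⟨x * l * x⁻¹, Normal.conj_mem inferInstance _ l.2 _⟩ = π l) : ∀ l ∈ L, x * l = l * x := by
  -- `l ↦ (x l x⁻¹) l⁻¹` is central, hence trivial on commutators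
  have hz : ∀ l : L, (⟨x * l * x⁻¹, Normal.conj_mem inferInstance _ l.2 _⟩ : L) * l⁻¹ ∈ center L := by
    intro l
    apply hk
    rw [MonoidHom.mem_ker, map_mul, h l, map_inv, mul_inv_cancel]
  have key : commutator L ≤ (centralizer ({x} : Set H)).subgroupOf L := by
    rw [commutator_def, commutator_le]
    intro u _ v _
    rw [mem_subgroupOf, mem_centralizer_singleton_iff]
    obtain ⟨ζ, hζ⟩ : ∃ ζ : L, (⟨x * u * x⁻¹, Normal.conj_mem inferInstance _ u.2 _⟩ : L) * u⁻¹ = ζ := ⟨_, rfl⟩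
    obtain ⟨η, hη⟩ : ∃ η : L, (⟨x * v * x⁻¹, Normal.conj_mem inferInstance _ v.2 _⟩ : L) * v⁻¹ = η := ⟨_, rfl⟩
    have cζ := hz u
    have cη := hz v
    rw [hζ] at cζ
    rw [hη] at cη
    have e1 : x * (u : H) * x⁻¹ = ζ * u := by
      have := congrArg Subtype.val hζ
      rw [← this]
      simp
    have e2 : x * (v : H) * x⁻¹ = η * v := by
      have := congrArg Subtype.val hη
      rw [← this]
      simp
    have cz : ∀ g : L, (ζ : H) * g = g * ζ := fun g => (congrArg Subtype.val (mem_center_iff.1 cζ g)).symm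
    have ce : ∀ g : L, (η : H) * g = g * η := fun g => (congrArg Subtype.val (mem_center_iff.1 cη g)).symm
    have e3 : x * ((⁅u, v⁆ : L) : H) * x⁻¹ = ((⁅u, v⁆ : L) : H) := by
      have e4 : x * ((⁅u, v⁆ : L) : H) * x⁻¹ =
          (x * u * x⁻¹) * (x * v * x⁻¹) * (x * u * x⁻¹)⁻¹ * (x * v * x⁻¹)⁻¹ := by
        rw [commutatorElement_def]
        push_cast
        group
      rw [e4, e1, e2, commutatorElement_def]
      push_cast
      exact comm_aux (ce u) (cz v) (cz u) (ce v) (cz η)
    have e5 := mul_inv_eq_iff_eq_mul.1 e3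
    exact e5.symm
  intro l hl
  have h1 : (⟨l, hl⟩ : L) ∈ commutator L := by rw [hp]; trivial
  have h2 := mem_subgroupOf.1 (key h1)
  exact (mem_centralizer_singleton_iff.1 h2).symm

/-- if all automorphisms of `K` are inner then `H = L C_H(L)` -/
theorem exists_mul [L.Normal] (hπ : OddCover π) (hK : center K = ⊥)
    (hin : ∀ α : MulAut K, ∃ s : K, ∀ g, α g = s * g * s⁻¹) (x : H) :
    ∃ l : L, ∃ c : H, (∀ l ∈ L, c * l = l * c) ∧ x = l * c := by
  obtain ⟨f, hf⟩ := hπ.exists_hom hK
  obtain ⟨s, hs⟩ := hin (f x)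
  obtain ⟨l, rfl⟩ := hπ.surj s
  refine ⟨l, (l : H)⁻¹ * x, ?_, by group⟩
  apply cent_of_mod hπ.perf hπ.cent
  intro m
  have h1 := hf x m ⟨x * m * x⁻¹, Normal.conj_mem inferInstance _ m.2 _⟩ rfl
  rw [hs] at h1
  have h2 : (⟨(l : H)⁻¹ * x * m * ((l : H)⁻¹ * x)⁻¹, Normal.conj_mem inferInstance _ m.2 _⟩ : L) =
      l⁻¹ * ⟨x * m * x⁻¹, Normal.conj_mem inferInstance _ m.2 _⟩ * l := by
    apply Subtype.ext
    push_cast
    group
  rw [h2, map_mul, map_mul, ← h1, map_inv]
  group

/-- **`C_H(L) = 1` and `H = L`** if all automorphisms of `K` are inner and `|C_H(L)|` is odd -/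
theorem eq_of_inner_odd (C : Cfg ρ b q a D X w) (hL : L.Normal) (hπ : OddCover π)
    (hodd : Odd (Nat.card (centralizer (L : Set H)))) (hK : center K = ⊥)
    (hin : ∀ α : MulAut K, ∃ s : K, ∀ g, α g = s * g * s⁻¹) :
    L = ⊤ ∧ Function.Injective π := by
  have := C.finite_H
  -- `X ≤ L`
  have hXL : X ≤ L := by
    intro x hx
    obtain ⟨l, c, hc, rfl⟩ := exists_mul hπ hK hin x
    have hcc : c ∈ centralizer (L : Set H) := mem_centralizer_iff.2 fun l hl => (hc l hl).symm
    have h1 := C.X_sq _ hx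
    have h2 : c * c = (l : H)⁻¹ * (l : H)⁻¹ := by
      have h3 : (l : H) * c * (l * c) = l * l * (c * c) := by
        rw [mul_assoc, ← mul_assoc c (l : H) c, hc l l.2]
        group
      rw [h3] at h1
      rw [← eq_inv_iff_mul_eq_one] at h1
      rw [← mul_inv_rev, h1, inv_inv]
    have h4 : c * c ∈ L := by rw [h2]; exact mul_mem (inv_mem l.2) (inv_mem l.2)
    have h5 : Odd (orderOf c) := by
      have h6 : orderOf c = orderOf (⟨c, hcc⟩ : centralizer (L : Set H)) := (Subgroup.orderOf_mk _ _).symm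
      rw [h6]
      exact hodd.of_dvd_nat (orderOf_dvd_natCard _)
    obtain ⟨k, hk⟩ := h5
    have h7 : c ∈ L := by
      have h8 : c = (c * c) ^ (k + 1) := by
        rw [← pow_two, ← pow_mul, show 2 * (k + 1) = orderOf c + 1 by omega, pow_succ, pow_orderOf_eq_one, one_mul]
      rw [h8]
      exact pow_mem h4 _
    exact mul_mem l.2 h7
  -- `C_H(L) ≤ C_H(X)` is a 2-group
  have hle : centralizer (L : Set H) ≤ centralizer (X : Set H) := centralizer_le (by exact_mod_cast hXL)
  have hbot : centralizer (L : Set H) = ⊥ :=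
    C.core inferInstance ((C.isPGroup_cent).to_le hle)
  constructor
  · rw [eq_top_iff]
    intro x _
    obtain ⟨l, c, hc, rfl⟩ := exists_mul hπ hK hin x
    have hcc : c ∈ centralizer (L : Set H) := mem_centralizer_iff.2 fun l hl => (hc l hl).symm
    rw [hbot, mem_bot] at hcc
    rw [hcc, mul_one]
    exact l.2
  · rw [injective_iff_map_eq_one]
    intro l hl
    have h1 : l ∈ center L := hπ.cent hl
    have h2 : (l : H) ∈ centralizer (L : Set H) := by
      rw [mem_centralizer_iff]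
      intro g hg
      exact congrArg Subtype.val (mem_center_iff.1 h1 ⟨g, hg⟩)
    rw [hbot, mem_bot] at h2
    exact Subtype.ext h2

/-- **`C_H(L) = 1` and `H = L`** if all automorphisms of `K` are inner, `LBs K n`, `w < n` -/
theorem eq_of_inner (C : Cfg ρ b q a D X w) (hL : L.Normal) [Nontrivial K] (hπ : OddCover π) {n : ℕ}
    (hn : LBs.{u} K n) (hwn : w < n) (hK : center K = ⊥)
    (hin : ∀ α : MulAut K, ∃ s : K, ∀ g, α g = s * g * s⁻¹) :
    L = ⊤ ∧ Function.Injective π :=
  eq_of_inner_odd C hL hπ (odd_cent C hL hπ hn hwn) hK hin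

/-- `H ≅ K` -/
theorem equiv_of_inner_odd (C : Cfg ρ b q a D X w) (hL : L.Normal) (hπ : OddCover π)
    (hodd : Odd (Nat.card (centralizer (L : Set H)))) (hK : center K = ⊥)
    (hin : ∀ α : MulAut K, ∃ s : K, ∀ g, α g = s * g * s⁻¹) : Nonempty (H ≃* K) := by
  obtain ⟨h1, h2⟩ := eq_of_inner_odd C hL hπ hodd hK hin
  exact ⟨((Subgroup.topEquiv (G := H)).symm.trans (MulEquiv.subgroupCongr h1.symm)).trans
    (MulEquiv.ofBijective π ⟨h2, hπ.surj⟩)⟩

/-- `H ≅ K` -/
theorem equiv_of_inner (C : Cfg ρ b q a D X w) (hL : L.Normal) [Nontrivial K] (hπ : OddCover π) {n : ℕ}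
    (hn : LBs.{u} K n) (hwn : w < n) (hK : center K = ⊥)
    (hin : ∀ α : MulAut K, ∃ s : K, ∀ g, α g = s * g * s⁻¹) : Nonempty (H ≃* K) :=
  equiv_of_inner_odd C hL hπ (odd_cent C hL hπ hn hwn) hK hin

end Cfsg.Agent.Omega.EH3.CentOdd

end
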