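import Cfsg.Agent.Mrg.Omega.EH3.RowInner
import Cfsg.Agent.KFacts.TwF4.OutTwo
import Cfsg.Agent.KFacts.TwF4.Perf


/-!
# The row `²F₄(q)`, `q ≥ 8`, of EH3 (helper796)

The nodes `⟨X_1, …, X_9⟩` and `⟨X_0, …, X_8⟩` over `U = ⟨X_1, …, X_8⟩`; `N(U) / U` is the torus, abelian of exponent
`q - 1`, prime to 6; all automorphisms of 2-power order are inner: `row_inner` applies.
-/

set_option autoImplicit false
set_option linter.unusedSectionVars false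

namespace Cfsg.Agent.Omega.EH3.TwF4Row

open Cfsg.Agent.SplitTwo Cfsg.Agent.SplitTwo.ZS Cfsg.Agent.TitsThree.RankTwoZ Cfsg.Agent.SplitTwo.RootSysZ
open Cfsg.Agent.KFacts.TwF4 Cfsg.Agent.KFacts.TwF4.Arc Cfsg.Agent.KFacts.TwF4.Inv Cfsg.Agent.KFacts.TwF4.SylU
open Cfsg.Agent.KFacts.TwF4.Perf Cfsg.Agent.KFacts.TwF4.OutTwo
open Cfsg.Lie
open scoped commutatorElement

universe u v

section coord

variable {F : Type*} [Field F] {σ : F →+* F} {G : Type v} [Group G] (S : Full σ G)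

/-- `X_9 ∩ U = 1` -/
theorem X9_inf_U {x : G} (h9 : x ∈ S.XZ 9) (hU : x ∈ J S.XZ 1 8) : x = 1 := by
  have Z := S.zsys8
  by_contra hx1
  obtain ⟨v, hv, v', hv', hn⟩ := Z.mu 9 x h9 hx1
  rw [show (9 : ℤ) - 8 = 1 by norm_num] at hv hv'
  have hnU : v * x * v' ∈ J S.XZ 1 8 :=
    mul_mem (mul_mem (mem_J hv le_rfl (by norm_num)) hU) (mem_J hv' le_rfl (by norm_num))
  have h1 : S.o 3 1 ∈ S.XZ 7 := S.mX7 1
  have h2 := S.comm_seven hnU h1
  have h3 := hn.mem h1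
  rw [show (2 : ℤ) * 9 - 8 - 7 = 3 by norm_num] at h3
  rw [commutatorElement_def] at h2
  have h4 : S.o 3 1 ∈ J S.XZ 2 6 := by
    have e : S.o 3 1 = (v * x * v' * S.o 3 1 * (v * x * v')⁻¹ * (S.o 3 1)⁻¹)⁻¹ *
        (v * x * v' * S.o 3 1 * (v * x * v')⁻¹) := by group
    rw [e]
    exact mul_mem (inv_mem h2) (mem_J h3 (by norm_num) (by norm_num))
  exact one_ne_zero (S.o_eq_one (Z.inter_one 1 (X_le_J (le_refl (7 : ℤ)) (le_refl (7 : ℤ)) h1) h4 (by norm_num)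
    (by norm_num) (by norm_num) (by norm_num) (Or.inr (by norm_num))))

variable [Finite F] [Finite G]

theorem U_le_N {b : G} (hb : b ∈ J S.XZ 1 8) : b ∈ Subgroup.normalizer ((J S.XZ 1 8 : Subgroup G) : Set G) :=
  Subgroup.le_normalizer hb

theorem T_le_N {t : G} (ht : t ∈ S.T) : t ∈ Subgroup.normalizer ((J S.XZ 1 8 : Subgroup G) : Set G) := by
  rw [Subgroup.mem_normalizer_iff]
  intro x
  refine ⟨fun hx => S.T_conj_J ht hx, fun hx => ?_⟩
  have h1 := S.T_conj_J (inv_mem ht) hx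
  have e : t⁻¹ * (t * x * t⁻¹) * t⁻¹⁻¹ = x := by group
  rwa [e] at h1

/-- the normaliser of `U` -/
theorem mem_N (hF : ∃ c : Fˣ, c ≠ 1) (hR : S.R.p = 2) {g : G} :
    g ∈ Subgroup.normalizer ((J S.XZ 1 8 : Subgroup G) : Set G) ↔ ∃ b ∈ J S.XZ 1 8, ∃ t ∈ S.T, g = b * t := by
  constructor
  · intro hg
    exact norm_U S hF hR (Subgroup.mem_normalizer_iff.1 hg)
  · rintro ⟨b, hb, t, ht, rfl⟩
    exact mul_mem (U_le_N S hb) (T_le_N S ht)

/-- an involution normalising `U` lies in `U` -/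
theorem mem_U_of_sq (hF : ∃ c : Fˣ, c ≠ 1) (hR : S.R.p = 2) {g : G}
    (hg : g ∈ Subgroup.normalizer ((J S.XZ 1 8 : Subgroup G) : Set G)) (hgg : g * g = 1) : g ∈ J S.XZ 1 8 := by
  obtain ⟨b, hb, t, ht, rfl⟩ := (mem_N S hF hR).1 hg
  obtain ⟨c, d, rfl⟩ := S.mem_T.1 ht
  have h1 : S.h c d * S.h c d ∈ J S.XZ 1 8 := by
    have e : S.h c d * S.h c d = (S.h c d * b * (S.h c d)⁻¹)⁻¹ * b⁻¹ * ((b * S.h c d) * (b * S.h c d)) := by
      have : (b * S.h c d) * (b * S.h c d) = b * (S.h c d * b * (S.h c d)⁻¹) * (S.h c d * S.h c d) := by group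
      rw [this]; group
    rw [e, hgg, mul_one]
    exact mul_mem (inv_mem (S.T_conj_J ht hb)) (inv_mem hb)
  rw [S.h_mul] at h1
  obtain ⟨h2, h3⟩ := torus_mem_two S (two_J S hR (a := 1) (b := 8) (by norm_num)) h1
  have hc : c = 1 := unit_sq S h2
  have hd : d = 1 := unit_sq S h3
  rw [hc, hd, S.h_one, mul_one]
  exact hb

theorem comm_N (hF : ∃ c : Fˣ, c ≠ 1) (hR : S.R.p = 2) {g k : G}
    (hg : g ∈ Subgroup.normalizer ((J S.XZ 1 8 : Subgroup G) : Set G))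
    (hk : k ∈ Subgroup.normalizer ((J S.XZ 1 8 : Subgroup G) : Set G)) : g * k * g⁻¹ * k⁻¹ ∈ J S.XZ 1 8 := by
  obtain ⟨b, hb, t, ht, rfl⟩ := (mem_N S hF hR).1 hg
  obtain ⟨c, hc, s, hs, rfl⟩ := (mem_N S hF hR).1 hk
  have hts := T_comm S ht hs
  have e : b * t * (c * s) * (b * t)⁻¹ * (c * s)⁻¹ =
      b * (t * c * t⁻¹) * (((t * s) * t⁻¹) * b⁻¹ * ((t * s) * t⁻¹)⁻¹) * (((t * s) * t⁻¹) * s⁻¹) * c⁻¹ := by group
  have e2 : t * s * t⁻¹ = s := by rw [hts]; group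
  rw [e, e2, mul_inv_cancel, mul_one]
  exact mul_mem (mul_mem (mul_mem hb (S.T_conj_J ht hc)) (S.T_conj_J hs (inv_mem hb))) (inv_mem hc)

theorem pow_N (hF : ∃ c : Fˣ, c ≠ 1) (hR : S.R.p = 2) {g : G}
    (hg : g ∈ Subgroup.normalizer ((J S.XZ 1 8 : Subgroup G) : Set G)) :
    g ^ (Nat.card F - 1) ∈ J S.XZ 1 8 := by
  obtain ⟨b, hb, t, ht, rfl⟩ := (mem_N S hF hR).1 hg
  have key : ∀ n : ℕ, ∃ u ∈ J S.XZ 1 8, (b * t) ^ n = u * t ^ n := by
    intro n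
    induction n with
    | zero => exact ⟨1, one_mem _, by simp⟩
    | succ n ih =>
      obtain ⟨u, hu, e⟩ := ih
      refine ⟨u * (t ^ n * b * (t ^ n)⁻¹), mul_mem hu (S.T_conj_J (pow_mem ht n) hb), ?_⟩
      rw [pow_succ, e, pow_succ]
      group
  obtain ⟨u, hu, e⟩ := key (Nat.card F - 1)
  obtain ⟨c, d, rfl⟩ := S.mem_T.1 ht
  have h1 : ∀ x : Fˣ, x ^ (Nat.card F - 1) = 1 := by
    intro x
    let _ := Fintype.ofFinite F
    have h2 : Nat.card Fˣ = Nat.card F - 1 := Nat.card_units F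
    rw [← h2]
    exact pow_card_eq_one'
  rw [e, h_pow, h1, h1, S.h_one, mul_one]
  exact hu

theorem cop_three (m : ℕ) : Nat.Coprime (2 ^ (2 * m + 1) - 1) 3 := by
  rw [Nat.coprime_comm, Nat.Prime.coprime_iff_not_dvd Nat.prime_three]
  intro h
  have h1 : 2 ^ (2 * m + 1) % 3 = 2 := by
    rw [pow_succ, pow_mul, Nat.mul_mod, Nat.pow_mod]
    norm_num
  have h2 := Nat.one_le_two_pow (n := 2 * m + 1)
  omega

/-- the abstract transitivity -/
theorem tr_of_form (hF : ∃ c : Fˣ, c ≠ 1) (hR : S.R.p = 2) {E : Subgroup G} (hUE : J S.XZ 1 8 ≤ E) {n : G}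
    (hn : ∀ t ∈ S.T, n⁻¹ * t * n ∈ S.T)
    (hform : ∀ g ∈ E, ∃ b ∈ J S.XZ 1 8, ∃ t ∈ S.T, g = b * t ∨ ∃ b' ∈ J S.XZ 1 8, g = b * (t * n) * b') :
    Tr E (J S.XZ 1 8) where
  T_le := hUE
  two := two_J S hR (by norm_num)
  trans := by
    intro g hg hgN k hk hkN
    obtain ⟨b, hb, t, ht, h | ⟨b', hb', h⟩⟩ := hform g hg
    · exact absurd ((mem_N S hF hR).2 ⟨b, hb, t, ht, h⟩) hgN
    obtain ⟨c, hc, s, hs, h' | ⟨c', hc', h'⟩⟩ := hform k hk
    · exact absurd ((mem_N S hF hR).2 ⟨c, hc, s, hs, h'⟩) hkN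
    refine ⟨c * b⁻¹, mul_mem hc (inv_mem hb), ?_⟩
    have e : (c * b⁻¹ * g)⁻¹ * k = b'⁻¹ * (n⁻¹ * (t⁻¹ * s) * n) * c' := by
      rw [h, h']; group
    rw [e]
    exact mul_mem (mul_mem (inv_mem (U_le_N S hb')) (T_le_N S (hn _ (mul_mem (inv_mem ht) hs)))) (U_le_N S hc')

/-- a lower bound for the number of points -/
theorem card_le_relIndex {E : Subgroup G} (f : F → G) (hf : ∀ t, f t ∈ E)
    (hinj : ∀ s t, (f s)⁻¹ * f t ∈ Subgroup.normalizer ((J S.XZ 1 8 : Subgroup G) : Set G) → s = t) :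
    Nat.card F ≤ (Subgroup.normalizer ((J S.XZ 1 8 : Subgroup G) : Set G)).relIndex E := by
  rw [Subgroup.relIndex, Subgroup.index]
  refine Nat.card_le_card_of_injective
    (fun t : F => (QuotientGroup.mk (⟨f t, hf t⟩ : E) :
      E ⧸ (Subgroup.normalizer ((J S.XZ 1 8 : Subgroup G) : Set G)).subgroupOf E)) ?_
  intro s t hst
  have h1 : (QuotientGroup.mk (⟨f s, hf s⟩ : E) :
      E ⧸ (Subgroup.normalizer ((J S.XZ 1 8 : Subgroup G) : Set G)).subgroupOf E)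
      = QuotientGroup.mk (⟨f t, hf t⟩ : E) := hst
  have h2 := QuotientGroup.eq.1 h1
  exact hinj s t h2

theorem tr_one (hF : ∃ c : Fˣ, c ≠ 1) (hR : S.R.p = 2) : Tr (J S.XZ 1 9) (J S.XZ 1 8) := by
  refine tr_of_form S hF hR (J_mono le_rfl (by norm_num)) (n := S.n1) ?_ ?_
  · intro t ht
    have := S.n1_T ht
    rw [n1_inv] at this ⊢
    exact this
  · intro g hg
    obtain ⟨l, hl, q, hq, rfl⟩ := S.J19_split hg
    have hq' : q ∈ J S.XZ 1 8 := J_mono (by norm_num) le_rfl hq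
    obtain ⟨b, hb, t, ht, h | ⟨b', hb', h⟩⟩ := HO_form S (g := l) (Subgroup.mem_sup_left hl)
    · refine ⟨b * (t * q * t⁻¹), mul_mem hb (S.T_conj_J ht hq'), t, ht, Or.inl ?_⟩
      rw [h]; group
    · refine ⟨b, hb, t, ht, Or.inr ⟨b' * q, mul_mem hb' hq', ?_⟩⟩
      rw [h]; group

theorem tr_two (hF : ∃ c : Fˣ, c ≠ 1) (hR : S.R.p = 2) : Tr (J S.XZ 0 8) (J S.XZ 1 8) := by
  refine tr_of_form S hF hR (J_mono (by norm_num) le_rfl) (n := S.n2) ?_ ?_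
  · intro t ht
    obtain ⟨c, d, rfl⟩ := S.mem_T.1 ht
    have := S.n2_h c d
    rw [n2_inv] at this ⊢
    rw [this]
    exact S.mem_T.2 ⟨_, _, rfl⟩
  · intro g hg
    have hz : S.e 2 0 1 ∈ S.Zc 2 := S.mem_Zc.2 ⟨1, rfl⟩
    have hz1 : S.e 2 0 1 ≠ 1 := fun h => one_ne_zero (S.e_eq_one h).2
    have hgP : g ∈ S.PL := hg
    exact S.form_of_conj hz hz1 (by rw [S.comm_PL hgP hz, mul_inv_cancel_right]; exact hz)

theorem card_one (hF : ∃ c : Fˣ, c ≠ 1) (hR : S.R.p = 2) :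
    Nat.card F ≤ (Subgroup.normalizer ((J S.XZ 1 8 : Subgroup G) : Set G)).relIndex (J S.XZ 1 9) := by
  refine card_le_relIndex S (fun t => S.o 0 t * S.n1) (fun t => mul_mem (mem_J (S.mX1 t) le_rfl (by norm_num))
    (S.LO_le_J S.n1_mem_LO)) ?_
  intro s t h
  have e : (S.o 0 s * S.n1)⁻¹ * (S.o 0 t * S.n1) = S.o 4 (s + t) := by
    have h1 : (S.o 0 s * S.n1)⁻¹ * (S.o 0 t * S.n1) = S.n1 * (S.o 0 s * S.o 0 t) * S.n1⁻¹ := by
      rw [mul_inv_rev, o_inv, n1_inv]; group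
    rw [h1, S.o_add, S.n1_o, sub_zero]
  have h' : S.o 4 (s + t) ∈ Subgroup.normalizer ((J S.XZ 1 8 : Subgroup G) : Set G) := by
    rw [← e]; exact h
  have h2 := mem_U_of_sq S hF hR h' (o_sq S 4 _)
  have h3 := X9_inf_U S (S.mX9 _) h2
  have h4 := S.o_eq_one h3
  have h5 : t + t = 0 := char2 S t
  calc s = s + t + t := by rw [add_assoc, h5, add_zero]
    _ = t := by rw [h4, zero_add]

theorem card_two (hF : ∃ c : Fˣ, c ≠ 1) (hR : S.R.p = 2) :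
    Nat.card F ≤ (Subgroup.normalizer ((J S.XZ 1 8 : Subgroup G) : Set G)).relIndex (J S.XZ 0 8) := by
  refine card_le_relIndex S (fun t => S.e 4 0 t * S.n2) (fun t => mul_mem (mem_J (S.mX8 0 t) (by norm_num) le_rfl)
    S.n2_mem) ?_
  intro s t h
  have e : (S.e 4 0 s * S.n2)⁻¹ * (S.e 4 0 t * S.n2) = S.e 0 0 (s + t) := by
    have h1 : (S.e 4 0 s * S.n2)⁻¹ * (S.e 4 0 t * S.n2) = S.n2 * (S.e 4 0 s * S.e 4 0 t) * S.n2⁻¹ := by
      rw [mul_inv_rev, z_inv, n2_inv]; group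
    rw [h1, S.e_mul, S.n2_e, sub_self]
    simp
  have h' : S.e 0 0 (s + t) ∈ Subgroup.normalizer ((J S.XZ 1 8 : Subgroup G) : Set G) := by
    rw [← e]; exact h
  have h2 := mem_U_of_sq S hF hR h' (z_sq S 0 _)
  have h3 := X0_inf_U S ((mem_X0 S).2 ⟨0, _, rfl⟩) h2
  have h4 := (S.e_eq_one h3).2
  have h5 : t + t = 0 := char2 S t
  calc s = s + t + t := by rw [add_assoc, h5, add_zero]
    _ = t := by rw [h4, zero_add]

/-- **The row.** -/
theorem row_full {m : ℕ} (hm : 1 ≤ m) (hcard : Nat.card F = 2 ^ (2 * m + 1)) (hR : S.R.p = 2) :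
    RowEH3.{u} G := by
  have h8 : 8 ≤ Nat.card F := by
    rw [hcard]
    calc 8 = 2 ^ 3 := by norm_num
      _ ≤ 2 ^ (2 * m + 1) := Nat.pow_le_pow_right (by norm_num) (by omega)
  have hF : ∃ c : Fˣ, c ≠ 1 := by
    by_contra hcon
    push Not at hcon
    let _ := Fintype.ofFinite F
    have h2 : Nat.card Fˣ = Nat.card F - 1 := Nat.card_units F
    have h3 : Nat.card Fˣ ≤ 1 := by
      have : Subsingleton Fˣ := ⟨fun x y => by rw [hcon x, hcon y]⟩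
      exact Finite.card_le_one_iff_subsingleton.2 this
    omega
  obtain ⟨P, hP⟩ := exists_sylow S hF hR
  have hone : (1 : ℕ) ≤ Nat.card F := by omega
  refine row_inner (K := G) ?_ ?_ P ?_ ?_ (E₁ := J S.XZ 1 9) (E₂ := J S.XZ 0 8) ?_ ?_ ?_ ?_ ?_ ?_
  · rw [eq_bot_iff]
    intro z hz
    rw [Subgroup.mem_bot]
    exact center_eq_bot S hF fun g => Subgroup.mem_center_iff.1 hz g
  · intro α n hα
    exact inner S hcard hF hR hα
  · intro g hg k hk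
    rw [hP] at hg hk
    show _ ∈ (P : Subgroup G)
    rw [hP]
    exact comm_N S hF hR hg hk
  · intro g hg
    rw [hP] at hg
    refine ⟨Nat.card F - 1, ?_, ?_, ?_⟩
    · rw [hcard, pow_succ]
      exact ⟨2 ^ (2 * m) - 1, by have := Nat.one_le_two_pow (n := 2 * m); omega⟩
    · rw [hcard]
      exact cop_three m
    · show _ ∈ (P : Subgroup G)
      rw [hP]
      exact pow_N S hF hR hg
  · rw [hP]; exact tr_one S hF hR
  · rw [hP]; exact tr_two S hF hR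
  · rw [hP]; exact lt_of_lt_of_le (by omega) (card_one S hF hR)
  · rw [hP]; exact lt_of_lt_of_le (by omega) (card_two S hF hR)
  · exact eq_top_of S (le_sup_of_le_right (X_le_J le_rfl (by norm_num)))
      (le_sup_of_le_left (X_le_J le_rfl (by norm_num))) (le_sup_of_le_left (X_le_J (by norm_num) (by norm_num)))
      (le_sup_of_le_left (X_le_J (by norm_num) le_rfl))
  · exact ⟨S.o 0 1, fun h => one_ne_zero (S.o_eq_one h)⟩

end coord

/-- **The row `²F₄(q)`, `q ≥ 8`, of EH3.** -/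
theorem row_twF4 {K : Type v} [Group K] (h : Iso2F4 K) : RowEH3.{u} K := by
  obtain ⟨F, _, _, m, hm, hK, ⟨e⟩⟩ := h
  obtain ⟨φ, hφ⟩ := Cfsg.Agent.ChevalleyStructure.TwF4.TwistedFix.exists_rln hK
  have := Cfsg.Agent.ChevalleyStructure.TwF4.Twisted.charP_two hK
  have : Finite ↥(twistedF4 F (2 ^ m)) := inferInstance
  exact RowEH3.equiv e (row_full (Cfsg.Agent.KFacts.TwF4.Inst.full hK hφ) hm (by rw [Nat.card_eq_fintype_card, hK]) rfl)

end Cfsg.Agent.Omega.EH3.TwF4Row
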