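import Cfsg.Agent.Mrg.Omega.EH3.Main
import Cfsg.Agent.Mrg.Omega.EH3.CLPlug
import Cfsg.Agent.Mrg.Omega.EH3.CoOneExit
import Cfsg.Agent.Mrg.Omega.EH3.MTwentyTwo.RowG


/-!
# EH3: the inputs which are closed (helper807)

`Open` : what is missing for `LeafEH3`; `Open.leaf`.
Closed: `CL` from the uniqueness of the component (helper947), the row `M₂₂` (helper893, 969), the row `Co₁` (helper586).
-/

set_option autoImplicit false

namespace Cfsg.Agent.Omega.EH3.Plug

open Subgroup Cfsg
open Cfsg.Agent.Omega.Frame (Ctx Cls All)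
open Cfsg.Agent.Omega.EH3.Main

universe u

/-- the Monster is known -/
theorem known_of_m {G : Type u} [Group G] (h : Spor.IsoM G) : IsKnownSimple' G := by
  unfold IsKnownSimple' IsSporadicGroup
  tauto

/-- **The row `Co₁`, `w = 12`** (exit to the Monster, helper586). -/
theorem co1 {K : Cls.{u}} (R : KFacts.Rows2.{u}) : RowG K (fun X _ w => Spor.IsoCo1 X ∧ w = 12) := by
  intro G _ _ _ Q A z a w S L hLn hLq hLo h4 ⟨hP, hw⟩
  have := S.ctx.simple
  obtain ⟨hsimple, hna⟩ := simple_of_quasisimple hLq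
  have hn := (R.co1 _ hP).lb.resolve_left (by norm_num)
  have : Nontrivial (L ⧸ center L) := hsimple.toNontrivial
  have hc : center (L ⧸ center L) = ⊥ := Exits.center_eq_bot hna
  exact known_of_m (CoOneExit.isoM_of_cfg S.pair S.cfg hLn (oddCover_mk (commutator_eq_top hLq) hLo) hP hc hn hw)

/-- **What is missing for `LeafEH3`.** -/
structure Open (K : Cls.{u}) : Prop where
  uniq : CLPlug.Unique.{u}
  table : KFacts.Rows2.{u}
  lie : RowG K (fun X _ _ => IsLieTypeChar 2 X)
  u43 : RowG K (fun X _ w => KFacts.IsUFourThree X ∧ w = 6)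
  co2 : RowG K (fun X _ w => Spor.IsoCo2 X ∧ w = 11)
  rowS : RowS K

theorem Open.inputs {K : Cls.{u}} (O : Open K) : Inputs K where
  cl := CLPlug.cl_of O.uniq
  table := O.table
  lie := O.lie
  u43 := O.u43
  m22 := RowG.of_all MTwentyTwo.RowG.rowG
  co2 := O.co2
  co1 := co1 O.table
  rowS := O.rowS

theorem Open.leaf {K : Cls.{u}} (O : Open K) : FrameExtra.LeafEH3 K := O.inputs.leaf

end Cfsg.Agent.Omega.EH3.Plug
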