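import Cfsg.Agent.Mrg.Omega.EH3.Main
import Cfsg.Agent.Omega.EH3.Orb
import Cfsg.Agent.Mrg.Omega.Tools.SE
import Cfsg.Agent.Mrg.ParSys.FreeTrans


/-!
# EH3: the end `⟨A, M₀⟩ = G` (helper754)

* `exists_sylow` : `C_G(z)` contains a Sylow 2-subgroup of `G`;
* `sit_of_pair` : the situation `Main.Sit` from a pair `(z, a)` (the first half of `Main.leafEH3`);
* `exists_conj` : two members `a`, `b ≠ z` of `z^G ∩ Q` are conjugate in `C_G(z)`;
* `eq_top` : `Sit`, helper886's `Lev Q A z a Sg M₀` and no `Far` pair imply `A ⊔ M₀ = ⊤` (`hB` = Bender).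
-/

set_option autoImplicit false

namespace Cfsg.Agent.Omega.EH3.Top

open Cfsg Subgroup Cfsg.Agent.Co2Type.Quad Cfsg.Agent.LargeExtra Cfsg.Agent.LargeExtra.Base
open Cfsg.Agent.LargeExtra.SiegelOrbit (O2)
open Cfsg.Agent.LargeExtra.SiegFam.Inst (AllSg Irr)
open Cfsg.Agent.Omega.Frame (Ctx)
open Cfsg.Agent.Omega.EH3.Main (Sit)
open Cfsg.Agent.Omega.EH3.CCTop (Far)

universe u

section

variable {G : Type u} [Group G] [Finite G] {Q A : Subgroup G} {z a : G}

/-- `z` is central in a Sylow 2-subgroup -/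
theorem exists_sylow (h : Large Q z) : ∃ T : Sylow 2 G, (T : Subgroup G) ≤ centralizer ({z} : Set G) := by
  have : Fact (Nat.Prime 2) := ⟨Nat.prime_two⟩
  obtain ⟨T, hT⟩ := (isPGroup h).exists_le_sylow
  refine ⟨T, ?_⟩
  have hnt : Nontrivial T := ⟨⟨⟨z, hT h.z_mem⟩, 1, fun h1 => h.z_ne (congrArg Subtype.val h1)⟩⟩
  have := T.isPGroup'.center_nontrivial
  obtain ⟨⟨⟨u, huT⟩, hu⟩, hu1⟩ := exists_ne (1 : center T)
  have hc : ∀ x ∈ (T : Subgroup G), x * u = u * x := fun x hx =>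
    congrArg Subtype.val (mem_center_iff.1 hu ⟨x, hx⟩)
  have huQ : u ∈ Q := h.self u (hc z (hT h.z_mem)).symm fun x hx => (hc x (hT hx)).symm
  rcases h.cent u huQ (fun y hy => (hc y (hT hy)).symm) with h1 | h1
  · exact absurd (Subtype.ext (Subtype.ext h1)) hu1
  · intro x hx
    rw [mem_centralizer_singleton_iff, ← h1]
    exact hc x hx

/-- the situation of a pair -/
theorem sit_of_pair (hG : Ctx G) {w : ℕ} (hw : 5 ≤ w) (p : Pair Q z A a) (hO : O2 p.lz)
    (hcQ : Nat.card Q = 2 ^ (2 * w + 1)) (hirr : IrrC p.lz) : Sit Q A z a w := by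
  have hcV : Nat.card p.lz.V = 2 ^ (2 * w) := by
    have h1 := p.lz.card_eq
    rw [hcQ, pow_succ, mul_comm (2 ^ (2 * w))] at h1
    exact (Nat.eq_of_mul_eq_mul_left (by norm_num) h1).symm
  have hbig : 2 ^ 11 ≤ Nat.card Q := by
    rw [hcQ]
    exact Nat.pow_le_pow_right (by norm_num) (by omega)
  -- `Irr p`
  have hI : Irr p := by
    intro R hR hinv
    rcases hirr R (fun c v hv => hinv _ ⟨c, rfl⟩ v hv) with h1 | h1
    · exact h1
    · exfalso
      apply p.va_ne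
      apply p.lz.b_nondeg
      intro v
      have h2 := p.lz.q_add' p.va v
      rw [hR _ (h1 ▸ trivial), hR _ (h1 ▸ trivial), hR _ (h1 ▸ trivial), zero_add, zero_add] at h2
      exact h2.symm
  have hidx : ∀ N : Subgroup G, N.index ≠ 2 := by
    have := hG.simple
    exact fun N => WCIrr.index_ne_two (Start.exists_ne' hG) N
  -- `|D̃| ≥ 4`
  have hfinD : Finite p.D := Finite.of_injective _ Subtype.val_injective
  have hD4 : 4 ≤ Nat.card p.D := by
    have h1 : Nat.card p.D ≠ 2 := fun h => TwoA.false_of_pair p hO hbig h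
    obtain ⟨k, hk⟩ : ∃ k : ℕ, Nat.card p.D = 2 ^ k := by
      have hfd : Module.Finite (ZMod 2) p.D := Module.Finite.of_finite
      exact ⟨Module.finrank (ZMod 2) p.D, by
        rw [Module.natCard_eq_pow_finrank (K := ZMod 2) (V := p.D), Nat.card_zmod]⟩
    have h2 : 1 < Nat.card p.D := by
      rw [Finite.one_lt_card_iff_nontrivial]
      exact ⟨⟨p.va, p.va_mem_D⟩, 0, fun h => p.va_ne (congrArg Subtype.val h)⟩
    rcases Nat.lt_or_ge k 2 with h3 | h3
    · interval_cases k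
      · rw [hk] at h2; omega
      · exact absurd hk h1
    · rw [hk]
      calc 4 = 2 ^ 2 := by norm_num
        _ ≤ 2 ^ k := Nat.pow_le_pow_right (by norm_num) h3
  have hfr : 8 ≤ Module.finrank (ZMod 2) p.lz.V := by
    have hfd : Module.Finite (ZMod 2) p.lz.V := Module.Finite.of_finite
    have h1 := Module.natCard_eq_pow_finrank (K := ZMod 2) (V := p.lz.V)
    rw [hcV, Nat.card_zmod] at h1
    have h2 := Nat.pow_right_injective (le_refl 2) h1
    have h3 : 2 * w = Module.finrank (ZMod 2) p.lz.V := h2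
    omega
  have hA : ¬ AllSg p := fun hS => WideIrr.SgKill.false_of_allSg hidx p hfr hI hS hD4
  have hRR := TCL.pair_RR p hirr hA
  exact ⟨hG, hw, p, hO, hcQ, hirr, TCL.card_D p hirr hRR hcQ, TCL.noSg p hirr hRR⟩

end

variable {G : Type u} [Group G] [Finite G] {Q A : Subgroup G} {z a : G} {w : ℕ}

/-- every pair `(z, b)` is in the same situation -/
theorem sit_conj (S : Sit Q A z a w) {g : G} (hin : g * z * g⁻¹ ∈ Q) (hne : g * z * g⁻¹ ≠ z) :
    Sit Q (Q.map (MulAut.conj g).toMonoidHom) z (g * z * g⁻¹) w :=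
  sit_of_pair S.ctx S.five (pair_of_conj S.pair.lz hin hne) S.o2 S.card_Q S.irr

/-- **two members of `z^G ∩ Q - {z}` are conjugate in `C_G(z)`** -/
theorem exists_conj (S : Sit Q A z a w) {A' : Subgroup G} {b : G} (S' : Sit Q A' z b w) :
    ∃ c, c * z = z * c ∧ c * a * c⁻¹ = b := by
  obtain ⟨⟨f, c, hc⟩, hf⟩ := Cfg.exists_map S.cfg S'.cfg
  have h1 : S.pair.lz.act c S.pair.va = S'.pair.va := by rw [hc]; exact hf
  have hcz : (c : G) * z = z * c := mem_centralizer_singleton_iff.1 c.2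
  rw [Pair.va, Large.act_pr] at h1
  have h2 : (c : G) * a * (c : G)⁻¹ = b ∨ (c : G) * a * (c : G)⁻¹ = b * z := S.pair.lz.pr_eq_pr.1 h1
  rcases h2 with h2 | h2
  · exact ⟨c, hcz, h2⟩
  · obtain ⟨y, hy, h3⟩ := exists_not_comm S.pair.lz S.pair.a_mem S.pair.la.z_ne S.pair.ne
    have hyz := S.pair.lz.comm_z y hy
    have h4 : y * a * y⁻¹ = a * z := by rw [h3, mul_assoc a y z, hyz]; group
    refine ⟨c * y, by rw [mul_assoc, hyz, ← mul_assoc, hcz, mul_assoc], ?_⟩
    calc (c : G) * y * a * ((c : G) * y)⁻¹ = c * (y * a * y⁻¹) * (c : G)⁻¹ := by group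
      _ = (c * a * (c : G)⁻¹) * (c * z * (c : G)⁻¹) := by rw [h4]; group
      _ = b * z * (z * c * (c : G)⁻¹) := by rw [h2, hcz]
      _ = b * (z * z) := by group
      _ = b := by rw [S.pair.lz.z_sq, mul_one]

/-- **THE END**: `⟨A, M₀⟩ = G` if there is no `Far` pair -/
theorem eq_top (S : Sit Q A z a w) {Sg M0 : Subgroup G} (e : ThmID.Lev Q A z a Sg M0)
    (hfar : ∀ g : G, ¬ Far Q z g)
    (hB : ∀ H : Subgroup G, IsStronglyEmbedded H →
      ∃ R : Subgroup G, Cfsg.Agent.StrongEmb.Split.IsSplit H R) : A ⊔ M0 = ⊤ := by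
  have hs := S.ctx.simple
  have p := S.pair
  have h := p.lz
  obtain ⟨T, hT⟩ := exists_sylow h
  -- `Y` = the normaliser
  obtain ⟨Y, hY⟩ : ∃ Y, Y = normalizer ((A ⊔ M0 : Subgroup G) : Set G) := ⟨_, rfl⟩
  have memY : ∀ g : G, (∀ x ∈ A ⊔ M0, g * x * g⁻¹ ∈ A ⊔ M0) → g ∈ Y := by
    intro g hg
    rw [hY]
    exact ThmID.mem_normalizer_of hg
  have hC : centralizer ({z} : Set G) ≤ Y := fun g hg =>
    memY g fun x hx => e.conj_G0 (mem_centralizer_singleton_iff.1 hg) hx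
  have hadj : ∀ g : G, g * z * g⁻¹ ∈ Q → ∃ y ∈ Y, g * z * g⁻¹ = y * z * y⁻¹ := by
    intro g hin
    by_cases hne : g * z * g⁻¹ = z
    · exact ⟨1, one_mem _, by rw [hne]; group⟩
    obtain ⟨c, hcz, hc⟩ := exists_conj S (sit_conj S hin hne)
    refine ⟨g, ?_, rfl⟩
    have h1 : c ∈ Y := hC (mem_centralizer_singleton_iff.2 hcz)
    have h2 : c⁻¹ * g ∈ Y := by
      refine memY _ fun x hx => e.conj_G0_V (Or.inr (Or.inl ?_)) hx
      calc (c⁻¹ * g) * z * (c⁻¹ * g)⁻¹ = c⁻¹ * (g * z * g⁻¹) * c := by group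
        _ = a := by rw [← hc]; group
    have h3 := mul_mem h1 h2
    rwa [mul_inv_cancel_left] at h3
  obtain ⟨g, hg, -⟩ := p.isConj
  have h1 := CCTop.eq_top h hadj S.ctx.char2 T hT hC hfar (g := g) (by rw [hg]; exact p.a_mem)
    (by rw [hg]; exact p.ne) hB
  have hn : (A ⊔ M0 : Subgroup G).Normal := by
    rw [← normalizer_eq_top_iff, ← hY, h1]
  rcases hn.eq_bot_or_eq_top with h2 | h2
  · exfalso
    apply h.z_ne
    have h3 : z ∈ A ⊔ M0 := (le_sup_left : A ≤ A ⊔ M0) p.z_mem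
    rw [h2] at h3
    exact mem_bot.1 h3
  · exact h2

end Cfsg.Agent.Omega.EH3.Top
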